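import Groth.Agent.Flat2G.RelAssVal3
import Groth.Agent.Flat2G.RelAssSch
import Groth.Agent.S1201
import Groth.Agent.Flat2B.RelAss
import Groth.Agent.Flat2C.FlatSec
import Groth.Agent.CohqB.FiniteType2
import Groth.Agent.Fdesc.PullbackSec
import Groth.Agent.FormalA.PullbackQC
import Groth.Agent.CycB.RelDim2
import Mathlib.AlgebraicGeometry.Morphisms.Flat

/-!
# Relative assassin of a module on a scheme

* `mem_relAss_iff` : on affine opens, in terms of `FlatCA.fiberMod`;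
* `exists_relAss_of_not_flatAt` : if `F` (finite type, `f` locally of finite type) is not flat over `S`
  at `x` then it is not flat at some point of the relative assassin specialising to `x` in the fibre;
* `relAss_map` : the relative assassin of a base change maps to the relative assassin.
-/

set_option autoImplicit false
set_option linter.style.haveILetI false
universe u
open CategoryTheory CategoryTheory.Limits AlgebraicGeometry Opposite TopologicalSpace

namespace K256.RelAssX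

open Groth.Agent.Flat2C.FlatSec

variable {X S : Scheme.{u}} (f : X ⟶ S) (F : X.Modules) {U : X.Opens} (hU : IsAffineOpen U) {V : S.Opens}
  (hV : IsAffineOpen V) (e : U ≤ f ⁻¹ᵁ V)

include hV in
theorem liesOver (x : X) (hx : x ∈ U) :
    letI := algebraOver f e
    (hU.primeIdealOf ⟨x, hx⟩).asIdeal.LiesOver (hV.primeIdealOf ⟨f x, e hx⟩).asIdeal := by
  let _ := algebraOver f e
  exact ⟨(Groth.Agent.Flat2G.RelAssSch.primeIdealOf_under f hU hV e x hx).symm⟩

include hV in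
/-- The relative assassin on affine opens. -/
theorem mem_relAss_iff [LocallyOfFiniteType f] (hF : Coh.IsQCoh F) (x : X) (hx : x ∈ U) :
    letI := algebraOver f e
    letI := moduleOver f F e
    haveI := isScalarTower_over f F e
    x ∈ MoreMor.relAss f F ↔ (hU.primeIdealOf ⟨x, hx⟩).asIdeal ∈ associatedPrimes Γ(X, U)
      (FlatCA.fiberMod (hV.primeIdealOf ⟨f x, e hx⟩).asIdeal Γ(X, U) Γ(F, U)) := by
  let i1 : Algebra Γ(S, V) Γ(X, U) := algebraOver f e
  let i2 : Module Γ(S, V) Γ(F, U) := moduleOver f F e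
  have i3 : IsScalarTower Γ(S, V) Γ(X, U) Γ(F, U) := isScalarTower_over f F e
  have i4 : Algebra.FiniteType Γ(S, V) Γ(X, U) := f.finiteType_appLE hV hU e
  have i5 := liesOver f hU hV e x hx
  have i6 : IsNoetherianRing ((hV.primeIdealOf ⟨f x, e hx⟩).asIdeal.Fiber Γ(X, U)) :=
    Algebra.FiniteType.isNoetherianRing (hV.primeIdealOf ⟨f x, e hx⟩).asIdeal.ResidueField _
  have h := Groth.Agent.Flat2G.RelAssSch.mem_relAss_iff f F hF hU hV e x hx
  rw [Groth.Agent.Flat2G.RelAssSch.primeIdealOf_under f hU hV e x hx] at h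
  rw [h]
  exact ⟨Groth.Agent.Flat2G.RelAssVal.mem_associatedPrimes_of_ra _ _,
    Groth.Agent.Flat2G.RelAssVal.ra_of_mem_associatedPrimes _ _⟩

/-- A module which is not flat at `x` is not flat at a point of the relative assassin specialising to
`x` in its fibre. -/
theorem exists_relAss_of_not_flatAt [LocallyOfFiniteType f] (hF : Coh.IsQCoh F) (hft : CohB1.IsFT F) (x : X)
    (hx : ¬ FlatMod.IsFlatOverAt f F x) :
    ∃ ξ ∈ MoreMor.relAss f F, ξ ⤳ x ∧ f ξ = f x ∧ ¬ FlatMod.IsFlatOverAt f F ξ := by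
  obtain ⟨V, U, hV, hU, e, hxU⟩ := Groth.Agent.CycB.RelDim.exists_affine_nhds f x
  let i1 : Algebra Γ(S, V) Γ(X, U) := algebraOver f e
  let i2 : Module Γ(S, V) Γ(F, U) := moduleOver f F e
  have i3 : IsScalarTower Γ(S, V) Γ(X, U) Γ(F, U) := isScalarTower_over f F e
  have i4 : Algebra.FiniteType Γ(S, V) Γ(X, U) := f.finiteType_appLE hV hU e
  have i5 : Module.Finite Γ(X, U) Γ(F, U) :=
    Groth.Agent.CohqB.FiniteType2.finite_sections_of_isFT F hft hU
  have i6 := liesOver f hU hV e x hxU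
  rw [isFlatOverAt_iff_flatAt f F hU hV e hF x hxU,
    Groth.Agent.S1201.result Γ(F, U) (hV.primeIdealOf ⟨f x, e hxU⟩).asIdeal
      (hU.primeIdealOf ⟨x, hxU⟩).asIdeal] at hx
  push Not at hx
  obtain ⟨q, hq1, hq2, hq3, hq4, hq5⟩ := hx
  obtain ⟨ξ, hξU, hξ⟩ := exists_primeIdealOf hU ⟨q, hq1⟩
  have hξ' : (hU.primeIdealOf ⟨ξ, hξU⟩).asIdeal = q := by rw [hξ]
  have hf : f ξ = f x := by
    have h1 := (liesOver f hU hV e ξ hξU).over
    have h2 : hV.primeIdealOf ⟨f ξ, e hξU⟩ = hV.primeIdealOf ⟨f x, e hxU⟩ := by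
      apply PrimeSpectrum.ext
      rw [h1, hq3.over, hξ']
    exact Groth.Agent.CycB.RelDim.primeIdealOf_inj hV _ _ h2
  have hsp : ξ ⤳ x := by
    have h1 : hU.fromSpec (hU.primeIdealOf ⟨ξ, hξU⟩) = ξ := hU.fromSpec_primeIdealOf ⟨ξ, hξU⟩
    have h2 : hU.fromSpec (hU.primeIdealOf ⟨x, hxU⟩) = x := hU.fromSpec_primeIdealOf ⟨x, hxU⟩
    rw [← h1, ← h2]
    refine Specializes.map ?_ hU.fromSpec.continuous
    rw [hξ]
    exact (PrimeSpectrum.le_iff_specializes _ _).1 hq2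
  refine ⟨ξ, ?_, hsp, hf, ?_⟩
  · rw [mem_relAss_iff f F hU hV e hF ξ hξU, Groth.Agent.Flat2A.FiberAss.mem_associatedPrimes_fiberMod_iff]
    have h3 : (⟨f ξ, e hξU⟩ : V) = ⟨f x, e hxU⟩ := Subtype.ext hf
    rw [h3, hξ']
    exact ⟨hq1, hq3, hq4⟩
  · rw [isFlatOverAt_iff_flatAt f F hU hV e hF ξ hξU]
    rw [hξ]
    exact hq5

section BC

variable {X X' S S' : Scheme.{u}} {g' : X' ⟶ X} {f' : X' ⟶ S'} {f : X ⟶ S} {g : S' ⟶ S}
  (H : IsPullback g' f' f g)

include H in
/-- The relative assassin of a base change maps to the relative assassin. -/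
theorem relAss_map [LocallyOfFiniteType f] (F : X.Modules) (hF : Coh.IsQCoh F) (x' : X')
    (hx' : x' ∈ MoreMor.relAss f' ((Scheme.Modules.pullback g').obj F)) :
    g' x' ∈ MoreMor.relAss f F := by
  have hf' : LocallyOfFiniteType f' := MorphismProperty.of_isPullback H inferInstance
  have hF' : Coh.IsQCoh ((Scheme.Modules.pullback g').obj F) :=
    Groth.Agent.FormalA.PullbackQC.isQCoh_pullback _ _ hF
  obtain ⟨V, U, hV, hU, e, hxU⟩ := Groth.Agent.CycB.RelDim.exists_affine_nhds f (g' x')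
  have hgf : g (f' x') = f (g' x') := by
    rw [← Scheme.Hom.comp_apply, ← Scheme.Hom.comp_apply, H.w]
  obtain ⟨_, ⟨V', hV', rfl⟩, hxV', hVV'⟩ :=
    S'.isBasis_affineOpens.exists_subset_of_mem_open (show f' x' ∈ (g ⁻¹ᵁ V : S'.Opens) by
      change g (f' x') ∈ V
      rw [hgf]
      exact e hxU) (g ⁻¹ᵁ V).2
  have eV : V' ≤ g ⁻¹ᵁ V := hVV'
  let U' : X'.Opens := g' ⁻¹ᵁ U ⊓ f' ⁻¹ᵁ V'
  have hU' : IsAffineOpen U' := by
    have : IsAffine _ := hV'
    have : IsAffine _ := hU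
    have : IsAffine _ := hV
    exact .of_isIso (Scheme.Hom.isPullback_resLE H eV e (rfl : U' = _)).isoPullback.hom
  have e1 : U' ≤ g' ⁻¹ᵁ U := inf_le_left
  have e2 : U' ≤ f' ⁻¹ᵁ V' := inf_le_right
  have hxU' : x' ∈ U' := ⟨hxU, hxV'⟩
  have hP : IsPushout (f.appLE V U e) (g.appLE V V' eV) (g'.appLE U U' e1) (f'.appLE V' U' e2) :=
    (isIso_pushoutSection_iff H eV e (UY := U') rfl).mp
      (isIso_pushoutSection_of_isAffineOpen H eV e rfl hV hV' hU)
  -- algebra structures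
  let a1 : Algebra Γ(S, V) Γ(S', V') := (g.appLE V V' eV).hom.toAlgebra
  let a2 : Algebra Γ(S, V) Γ(X, U) := algebraOver f e
  let a3 : Algebra Γ(S', V') Γ(X', U') := algebraOver f' e2
  let a4 : Algebra Γ(X, U) Γ(X', U') := Groth.Agent.Fdesc.PullbackSec.secAlg g' e1
  let a5 : Algebra Γ(S, V) Γ(X', U') := (f.appLE V U e ≫ g'.appLE U U' e1).hom.toAlgebra
  have t1 : IsScalarTower Γ(S, V) Γ(S', V') Γ(X', U') :=
    IsScalarTower.of_algebraMap_eq fun r => ConcreteCategory.congr_hom hP.w r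
  have t2 : IsScalarTower Γ(S, V) Γ(X, U) Γ(X', U') := IsScalarTower.of_algebraMap_eq fun r => rfl
  have hPA : Algebra.IsPushout Γ(S, V) Γ(X, U) Γ(S', V') Γ(X', U') :=
    CommRingCat.isPushout_iff_isPushout.mp hP
  let F' : X'.Modules := (Scheme.Modules.pullback g').obj F
  let m1 : Module Γ(S, V) Γ(F, U) := moduleOver f F e
  let m2 : Module Γ(X, U) Γ(F', U') := Groth.Agent.Fdesc.PullbackSec.secModule g' e1 F'
  let m3 : Module Γ(S', V') Γ(F', U') := moduleOver f' F' e2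
  have s1 : IsScalarTower Γ(S, V) Γ(X, U) Γ(F, U) := isScalarTower_over f F e
  have s2 : IsScalarTower Γ(S', V') Γ(X', U') Γ(F', U') := isScalarTower_over f' F' e2
  have s3 : IsScalarTower Γ(X, U) Γ(X', U') Γ(F', U') :=
    Groth.Agent.Fdesc.PullbackSec.isScalarTower_sec g' e1 F'
  have hb := Groth.Agent.Fdesc.PullbackSec.isBaseChange_pullSec g' e1 hU hU' F hF hF'
  have hl : (hV'.primeIdealOf ⟨f' x', e2 hxU'⟩).asIdeal.LiesOver
      (hV.primeIdealOf ⟨f (g' x'), e hxU⟩).asIdeal := by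
    refine ⟨?_⟩
    have h1 := Groth.Agent.Flat2G.RelAssSch.primeIdealOf_under g hV' hV eV (f' x') hxV'
    have h2 : (⟨g (f' x'), eV hxV'⟩ : V) = ⟨f (g' x'), e hxU⟩ := Subtype.ext hgf
    rw [h2] at h1
    exact h1.symm
  rw [mem_relAss_iff f' F' hU' hV' e2 hF' x' hxU'] at hx'
  rw [mem_relAss_iff f F hU hV e hF (g' x') hxU]
  have key := Groth.Agent.Flat2B.RelAss.relAss_comap (Groth.Agent.Fdesc.PullbackSec.pullSec g' e1 F) hb
    (hV.primeIdealOf ⟨f (g' x'), e hxU⟩).asIdeal (hV'.primeIdealOf ⟨f' x', e2 hxU'⟩).asIdeal hx'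
  have h3 : (hU'.primeIdealOf ⟨x', hxU'⟩).asIdeal.comap (algebraMap Γ(X, U) Γ(X', U')) =
      (hU.primeIdealOf ⟨g' x', hxU⟩).asIdeal :=
    Groth.Agent.Flat2G.RelAssSch.primeIdealOf_under g' hU' hU e1 x' hxU'
  rw [h3] at key
  exact key

end BC

end K256.RelAssX
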