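import Groth.Agent.FlatMor.K256.StalkPull
import Groth.Agent.Picfga.HilbPull
import Groth.Agent.Models2.FlatIso
import Groth.Agent.Fdesc.FlatBC
import Groth.Prelude.Def_FGA

/-!
# Base change of modules and morphisms of modules along `X_{T'} ⟶ X_T`

For `g : T' ⟶ T` over `S` and `u : F ⟶ G` on `X`, the pullback of `u_T` along `X_{T'} ⟶ X_T` is
`u_{T'}` up to the canonical isomorphisms.  Consequences for `Mono`, `Epi`, `IsIso`, `= 0` and
flatness over the base.
-/

set_option autoImplicit false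
universe u
open CategoryTheory CategoryTheory.Limits AlgebraicGeometry Opposite

namespace K256.ModBC

open Groth.Agent.Picfga.HilbPull

variable {X Y Z S : Scheme.{u}}

/-- The comparison `a^* b^* F ≅ c^* F` when `a ≫ b = c`. -/
noncomputable def cmp (a : X ⟶ Y) (b : Y ⟶ Z) (c : X ⟶ Z) (h : a ≫ b = c) :
    Scheme.Modules.pullback b ⋙ Scheme.Modules.pullback a ≅ Scheme.Modules.pullback c :=
  Scheme.Modules.pullbackComp a b ≪≫ Scheme.Modules.pullbackCongr h

/-- The arrows `a^* b^* u` and `c^* u` are isomorphic. -/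
noncomputable def arrowIso (a : X ⟶ Y) (b : Y ⟶ Z) (c : X ⟶ Z) (h : a ≫ b = c) {F G : Z.Modules}
    (u : F ⟶ G) :
    Arrow.mk ((Scheme.Modules.pullback a).map ((Scheme.Modules.pullback b).map u)) ≅
      Arrow.mk ((Scheme.Modules.pullback c).map u) :=
  Arrow.isoMk ((cmp a b c h).app F) ((cmp a b c h).app G) ((cmp a b c h).hom.naturality u).symm

theorem mono_iff (a : X ⟶ Y) (b : Y ⟶ Z) (c : X ⟶ Z) (h : a ≫ b = c) {F G : Z.Modules} (u : F ⟶ G) :
    Mono ((Scheme.Modules.pullback a).map ((Scheme.Modules.pullback b).map u)) ↔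
      Mono ((Scheme.Modules.pullback c).map u) :=
  (MorphismProperty.monomorphisms _).arrow_mk_iso_iff (arrowIso a b c h u)

theorem epi_iff (a : X ⟶ Y) (b : Y ⟶ Z) (c : X ⟶ Z) (h : a ≫ b = c) {F G : Z.Modules} (u : F ⟶ G) :
    Epi ((Scheme.Modules.pullback a).map ((Scheme.Modules.pullback b).map u)) ↔
      Epi ((Scheme.Modules.pullback c).map u) :=
  (MorphismProperty.epimorphisms _).arrow_mk_iso_iff (arrowIso a b c h u)

theorem isIso_iff (a : X ⟶ Y) (b : Y ⟶ Z) (c : X ⟶ Z) (h : a ≫ b = c) {F G : Z.Modules} (u : F ⟶ G) :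
    IsIso ((Scheme.Modules.pullback a).map ((Scheme.Modules.pullback b).map u)) ↔
      IsIso ((Scheme.Modules.pullback c).map u) :=
  (MorphismProperty.isomorphisms _).arrow_mk_iso_iff (arrowIso a b c h u)

theorem eq_zero_iff (a : X ⟶ Y) (b : Y ⟶ Z) (c : X ⟶ Z) (h : a ≫ b = c) {F G : Z.Modules} (u : F ⟶ G) :
    (Scheme.Modules.pullback a).map ((Scheme.Modules.pullback b).map u) = 0 ↔
      (Scheme.Modules.pullback c).map u = 0 := by
  have h1 := (cmp a b c h).hom.naturality u
  have h2 : (Scheme.Modules.pullback b ⋙ Scheme.Modules.pullback a).map u =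
    (Scheme.Modules.pullback a).map ((Scheme.Modules.pullback b).map u) := rfl
  rw [h2] at h1
  constructor
  · intro h0
    rw [h0, zero_comp] at h1
    rw [← cancel_epi ((cmp a b c h).hom.app F), ← h1, comp_zero]
  · intro h0
    rw [h0, comp_zero] at h1
    rw [← cancel_mono ((cmp a b c h).hom.app G), h1, zero_comp]

section XT

variable (f : X ⟶ S) {T T' : Over S}

section

variable (g : T' ⟶ T)

/-- `u_T`. -/
noncomputable abbrev uT {F G : X.Modules} (u : F ⟶ G) (T : Over S) : FGA.ET f F T ⟶ FGA.ET f G T :=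
  (Scheme.Modules.pullback (pullback.fst f T.hom)).map u

theorem mono_XT {F G : X.Modules} (u : F ⟶ G) :
    Mono ((Scheme.Modules.pullback (PicF.XTmap f g)).map (uT f u T)) ↔ Mono (uT f u T') :=
  mono_iff _ _ _ (FGA.XTmap_fst f g) u

theorem epi_XT {F G : X.Modules} (u : F ⟶ G) :
    Epi ((Scheme.Modules.pullback (PicF.XTmap f g)).map (uT f u T)) ↔ Epi (uT f u T') :=
  epi_iff _ _ _ (FGA.XTmap_fst f g) u

theorem isIso_XT {F G : X.Modules} (u : F ⟶ G) :
    IsIso ((Scheme.Modules.pullback (PicF.XTmap f g)).map (uT f u T)) ↔ IsIso (uT f u T') :=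
  isIso_iff _ _ _ (FGA.XTmap_fst f g) u

theorem eq_zero_XT {F G : X.Modules} (u : F ⟶ G) :
    (Scheme.Modules.pullback (PicF.XTmap f g)).map (uT f u T) = 0 ↔ uT f u T' = 0 :=
  eq_zero_iff _ _ _ (FGA.XTmap_fst f g) u

end

/-- Stability under base change. -/
theorem isIso_stable (g : T' ⟶ T) {F G : X.Modules} (u : F ⟶ G) (h : IsIso (uT f u T)) : IsIso (uT f u T') :=
  (isIso_XT f g u).1 inferInstance

theorem epi_stable (g : T' ⟶ T) {F G : X.Modules} (u : F ⟶ G) (h : Epi (uT f u T)) : Epi (uT f u T') :=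
  (epi_XT f g u).1 inferInstance

theorem eq_zero_stable (g : T' ⟶ T) {F G : X.Modules} (u : F ⟶ G) (h : uT f u T = 0) : uT f u T' = 0 :=
  (eq_zero_XT f g u).1 (by rw [h, Functor.map_zero])

variable (g : T' ⟶ T)

theorem flatOverAt_stable (F : X.Modules) (x : PicF.XT f T')
    (h : FlatMod.IsFlatOverAt (PicF.XTproj f T) (FGA.ET f F T) ((PicF.XTmap f g).base x)) :
    FlatMod.IsFlatOverAt (PicF.XTproj f T') (FGA.ET f F T') x :=
  Groth.Agent.Models2.FlatIso.isFlatOverAt_of_iso _ (FGA.ETiso f F g) x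
    (Groth.Agent.Fdesc.FlatBC.isFlatOverAt_pullback (isPullback_XTmap f g) _ x h)

theorem flatOverAt_descent [Flat g.left] (F : X.Modules) (x : PicF.XT f T')
    (h : FlatMod.IsFlatOverAt (PicF.XTproj f T') (FGA.ET f F T') x) :
    FlatMod.IsFlatOverAt (PicF.XTproj f T) (FGA.ET f F T) ((PicF.XTmap f g).base x) :=
  Groth.Agent.Fdesc.FlatBC.isFlatOverAt_of_pullback (isPullback_XTmap f g) _ x
    (Groth.Agent.Models2.FlatIso.isFlatOverAt_of_iso _ (FGA.ETiso f F g).symm x h)

/-- A point of `X_T` over the image of a point of `T'` lifts to `X_{T'}`. -/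
theorem exists_lift (x : PicF.XT f T) (t' : T'.left) (h : g.left.base t' = (PicF.XTproj f T).base x) :
    ∃ x' : PicF.XT f T', (PicF.XTmap f g).base x' = x ∧ (PicF.XTproj f T').base x' = t' := by
  obtain ⟨z, hz1, hz2⟩ := Scheme.Pullback.exists_preimage_pullback x t' h.symm
  refine ⟨((isPullback_XTmap f g).isoPullback.inv).base z, ?_, ?_⟩
  · rw [← hz1, ← Scheme.Hom.comp_apply, IsPullback.isoPullback_inv_fst]
  · rw [← hz2, ← Scheme.Hom.comp_apply, IsPullback.isoPullback_inv_snd]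

theorem flat_XTmap [Flat g.left] : Flat (PicF.XTmap f g) :=
  MorphismProperty.of_isPullback (isPullback_XTmap f g).flip inferInstance

end XT

/-- The family `X_{T'} ⟶ X_T` attached to a jointly surjective family of flat morphisms to `T` is a
jointly surjective family of flat morphisms. -/
theorem cover_XT (f : X ⟶ S) (T : Over S) (Q : Over S → Prop)
    (h : ∀ t : T.left, ∃ (Y : Scheme.{u}) (g : Y ⟶ T.left) (y : Y), Flat g ∧
      g.base y = t ∧ Q (Over.mk (g ≫ T.hom))) (x : PicF.XT f T) :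
    ∃ (T' : Over S) (g : T' ⟶ T) (x' : PicF.XT f T'), Flat g.left ∧ Flat (PicF.XTmap f g) ∧
      (PicF.XTmap f g).base x' = x ∧ Q T' := by
  obtain ⟨Y, g, y, hg, hy, hQ⟩ := h ((PicF.XTproj f T).base x)
  let g' : Over.mk (g ≫ T.hom) ⟶ T := Over.homMk g rfl
  have : Flat g'.left := hg
  obtain ⟨x', hx', -⟩ := exists_lift f g' x y hy
  exact ⟨_, g', x', hg, flat_XTmap f g', hx', hQ⟩

end K256.ModBC
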