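import Groth.Agent.CycB.RelDim4
import Groth.Agent.FlatMor.K256.ModBC

/-!
# Transcendence degrees of residue field extensions and base change

For a cartesian square `g' : X' ⟶ X`, `f' : X' ⟶ S'`, `f : X ⟶ S`, `g : S' ⟶ S`:
* `exists_gen` : every point of `X'` has a generization with the same images whose relative
  transcendence degree is that of its image in `X`;
* `rtd_le` : `rtd f' x' ≤ rtd f (g' x')`;
* `exists_lift_specializes`, `exists_over` : lifting of generizations in the fibres and of points.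
-/

set_option autoImplicit false
universe u
open CategoryTheory CategoryTheory.Limits AlgebraicGeometry Opposite
open Groth.Agent.CycB.RelDim

namespace K256.RtdBC

theorem exists_fibGeneric {X Y : Scheme.{u}} (f : X ⟶ Y) (x : X) :
    ∃ x' : X, x' ⤳ x ∧ f x' = f x ∧ FibGeneric f x' := by
  obtain ⟨T, hT, hle⟩ := exists_mem_irreducibleComponents_subset_of_isIrreducible
    ({f.asFiber x} : Set (f.fiber (f x))) isIrreducible_singleton
  obtain ⟨z, rfl, hz⟩ := exists_fibGeneric_of_mem hT
  have hzx : z ⤳ f.asFiber x := specializes_iff_mem_closure.mpr (hle rfl)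
  refine ⟨f.fiberι (f x) z, ?_, ?_, hz⟩
  · have := hzx.map (f.fiberι (f x)).continuous
    rwa [Scheme.Hom.fiberι_asFiber] at this
  · have : f.fiberι (f x) z ∈ Set.range (f.fiberι (f x)) := ⟨z, rfl⟩
    rw [Scheme.Hom.range_fiberι] at this
    exact this

theorem fiberι_mem {X Y : Scheme.{u}} (f : X ⟶ Y) (y : Y) (z : f.fiber y) : f (f.fiberι y z) = y := by
  have : f.fiberι y z ∈ Set.range (f.fiberι y) := ⟨z, rfl⟩
  rw [Scheme.Hom.range_fiberι] at this
  exact this

theorem exists_fiber_pt {X Y : Scheme.{u}} (f : X ⟶ Y) (y : Y) (x : X) (h : f x = y) :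
    ∃ z : f.fiber y, f.fiberι y z = x := by
  have : x ∈ Set.range (f.fiberι y) := by
    rw [Scheme.Hom.range_fiberι]
    exact h
  exact this

variable {X X' S S' : Scheme.{u}} {g' : X' ⟶ X} {f' : X' ⟶ S'} {f : X ⟶ S} {g : S' ⟶ S}

/-- The relative transcendence degree at a point minimal among the points with the same images. -/
theorem rtd_eq_of_minimal (H : IsPullback g' f' f g) (x' : X')
    (h : ∀ z : X', g' z = g' x' → f' z = f' x' → z ⤳ x' → z = x') : rtd f' x' = rtd f (g' x') := by
  let e := H.isoPullback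
  have h1 : e.hom ≫ pullback.fst f g = g' := H.isoPullback_hom_fst
  have h2 : e.hom ≫ pullback.snd f g = f' := H.isoPullback_hom_snd
  have h1' : ∀ w, pullback.fst f g (e.hom w) = g' w := fun w => by rw [← Scheme.Hom.comp_apply, h1]
  have h2' : ∀ w, pullback.snd f g (e.hom w) = f' w := fun w => by rw [← Scheme.Hom.comp_apply, h2]
  have h3 : ∀ w, ∃ v, e.hom v = w := fun w => ⟨e.inv w, by
    rw [← Scheme.Hom.comp_apply, e.inv_hom_id]; rfl⟩
  have key := rtd_snd_eq (f := f) (g := g) (e.hom x') (fun t h4 h5 h6 => by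
    obtain ⟨z, rfl⟩ := h3 t
    rw [h1', h1'] at h4
    rw [h2', h2'] at h5
    have h7 : z ⤳ x' := (e.hom.isOpenEmbedding.isInducing.specializes_iff).1 h6
    rw [h z h4 h5 h7])
  rw [h1'] at key
  rw [← key, ← h2, rtd_comp]
  have h8 : rtd e.hom x' = 0 := rtd_eq_zero_of_isPreimmersion _ _
  rw [h8, add_zero]

/-- The map of fibres `X'_{s'} → X_{g s'}` is flat. -/
theorem exists_flat_fiber_map (H : IsPullback g' f' f g) (s' : S') :
    ∃ m : f'.fiber s' ⟶ f.fiber (g s'), Flat m ∧ m ≫ f.fiberι (g s') = f'.fiberι s' ≫ g' := by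
  have h := isPullback_fiberToSpecResidueField_of_isPullback H s'
  refine ⟨pullback.map _ _ _ _ g' (Spec.map (g.residueFieldMap s')) g H.w.symm (by simp), ?_,
    pullback.lift_fst _ _ _⟩
  · have h3 : Flat (Spec.map (g.residueFieldMap s')) := by
      rw [Flat.SpecMap_iff]
      let _ := (g.residueFieldMap s').hom.toAlgebra
      exact (inferInstance : Module.Flat (S.residueField (g s')) (S'.residueField s'))
    exact MorphismProperty.of_isPullback (P := @Flat) h.flip h3

theorem exists_gen (H : IsPullback g' f' f g) (x' : X') :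
    ∃ z : X', z ⤳ x' ∧ g' z = g' x' ∧ f' z = f' x' ∧ rtd f' z = rtd f (g' x') := by
  obtain ⟨w, hw⟩ := exists_fiber_pt f' (f' x') x' rfl
  obtain ⟨w', h1, h2, h3⟩ := exists_fibGeneric (f'.fiberι (f' x') ≫ g') w
  have h2' : g' (f'.fiberι (f' x') w') = g' (f'.fiberι (f' x') w) := by
    rw [← Scheme.Hom.comp_apply, ← Scheme.Hom.comp_apply]
    exact h2
  refine ⟨f'.fiberι (f' x') w', ?_, ?_, fiberι_mem _ _ _, ?_⟩
  · exact (h1.map (f'.fiberι _).continuous).trans (specializes_of_eq hw)
  · rw [h2', hw]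
  · rw [rtd_eq_of_minimal H, h2', hw]
    intro z hz1 hz2 hz3
    rw [fiberι_mem] at hz2
    obtain ⟨w'', rfl⟩ := exists_fiber_pt f' (f' x') z hz2
    have h4 := h3 w'' (by
      rw [Scheme.Hom.comp_apply, Scheme.Hom.comp_apply]
      exact hz1) ((f'.fiberι (f' x')).isEmbedding.isInducing.specializes_iff.1 hz3)
    rw [h4]

theorem rtd_le (H : IsPullback g' f' f g) [LocallyOfFiniteType f] (x' : X') :
    rtd f' x' ≤ rtd f (g' x') := by
  have : LocallyOfFiniteType f' := MorphismProperty.of_isPullback H inferInstance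
  obtain ⟨z, h1, h2, h3, h4⟩ := exists_gen H x'
  rw [← h4]
  by_cases h : z = x'
  · rw [h]
  · exact (rtd_lt_of_specializes f' h1 h h3).le

/-- Generizations in the fibres lift, with the same relative transcendence degree. -/
theorem exists_lift_specializes (H : IsPullback g' f' f g) (x' : X') (z : X) (hz : z ⤳ g' x')
    (hzf : f z = f (g' x')) :
    ∃ z' : X', z' ⤳ x' ∧ g' z' = z ∧ f' z' = f' x' ∧ rtd f' z' = rtd f z := by
  obtain ⟨m, hm, hmc⟩ := exists_flat_fiber_map H (f' x')
  have hmc' : ∀ w, f.fiberι (g (f' x')) (m w) = g' (f'.fiberι (f' x') w) := fun w => by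
    rw [← Scheme.Hom.comp_apply, hmc, Scheme.Hom.comp_apply]
  have hw0 : f (g' x') = g (f' x') := by
    rw [← Scheme.Hom.comp_apply, H.w, Scheme.Hom.comp_apply]
  obtain ⟨w, hw⟩ := exists_fiber_pt f' (f' x') x' rfl
  obtain ⟨v, hv⟩ := exists_fiber_pt f (g (f' x')) z (hzf.trans hw0)
  have h1 : v ⤳ m w := by
    refine (f.fiberι _).isEmbedding.isInducing.specializes_iff.1 ?_
    rw [hmc', hw, hv]
    exact hz
  obtain ⟨w', h2, h3⟩ := exists_specializes_of_flat m h1
  have h4 : g' (f'.fiberι (f' x') w') = z := by rw [← hmc', h3, hv]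
  obtain ⟨z', h5, h6, h7, h8⟩ := exists_gen H (f'.fiberι (f' x') w')
  refine ⟨z', h5.trans ?_, h6.trans h4, h7.trans (fiberι_mem _ _ _), by rw [h8, h4]⟩
  exact (h2.map (f'.fiberι _).continuous).trans (specializes_of_eq hw)

/-- A point of `X'` over a point of `X` and a point of `S'` with the same relative transcendence
degree. -/
theorem exists_over (H : IsPullback g' f' f g) (x : X) (s' : S') (h : f x = g s') :
    ∃ x' : X', g' x' = x ∧ f' x' = s' ∧ rtd f' x' = rtd f x := by
  obtain ⟨z, hz1, hz2⟩ := Scheme.Pullback.exists_preimage_pullback x s' h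
  have h1 : g' (H.isoPullback.inv z) = x := by
    rw [← hz1, ← Scheme.Hom.comp_apply, IsPullback.isoPullback_inv_fst]
  have h2 : f' (H.isoPullback.inv z) = s' := by
    rw [← hz2, ← Scheme.Hom.comp_apply, IsPullback.isoPullback_inv_snd]
  obtain ⟨x', -, h4, h5, h6⟩ := exists_gen H (H.isoPullback.inv z)
  exact ⟨x', h4.trans h1, h5.trans h2, by rw [h6, h1]⟩

end K256.RtdBC
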