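import Groth.Agent.Ega4fib.H172.FibDimBC
import Groth.Agent.FlatMor.K256.RtdBC
import Groth.Agent.S0402
import Mathlib.AlgebraicGeometry.Morphisms.ClosedImmersion

/-!
# Points of a closed subset in whose fibre the subset has dimension `≥ n`

`BSet q Z n` : the set of points `x` of `X` which are specialisations, in their fibre for
`q : X ⟶ T`, of a point `z` of `Z` with `n ≤ rtd q z`.  It is closed if `Z` is.
-/

set_option autoImplicit false
universe u
open CategoryTheory CategoryTheory.Limits AlgebraicGeometry Opposite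
open Groth.Agent.CycB.RelDim

namespace K256.DimClosed

variable {X T : Scheme.{u}}

/-- See the module docstring. -/
def BSet (q : X ⟶ T) (Z : Set X) (n : ℕ) : Set X :=
  {x | ∃ z ∈ Z, z ⤳ x ∧ q z = q x ∧ (n : Cardinal.{u}) ≤ rtd q z}

/-- `fibreDimAt` in terms of `rtd`. -/
theorem not_fibreDimAt_le_iff (q : X ⟶ T) [LocallyOfFiniteType q] (x : X) (m : ℕ) :
    ¬ FlatMor.fibreDimAt q x ≤ m ↔ ∃ z : X, z ⤳ x ∧ q z = q x ∧ ((m + 1 : ℕ) : Cardinal.{u}) ≤ rtd q z := by
  constructor
  · intro h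
    obtain ⟨z, h1, h2, -, k, h3, h4⟩ :=
      Groth.Agent.Ega4fib.H172.FibDimBC.exists_fibGeneric_rtd_eq q x
    refine ⟨z, h1, h2, ?_⟩
    rw [h3]
    rw [h4] at h
    by_contra hcon
    refine h ?_
    have h5 : k ≤ m := by
      by_contra h6
      exact hcon (by exact_mod_cast (show m + 1 ≤ k by omega))
    exact_mod_cast h5
  · rintro ⟨z, h1, h2, h3⟩ h
    have h4 := h3.trans (Groth.Agent.Ega4fib.H172.FibDimBC.rtd_le_of_fibreDimAt q h1 h2 h)
    have h5 : m + 1 ≤ m := by exact_mod_cast h4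
    omega

theorem isClosed_BSet_univ (q : X ⟶ T) [LocallyOfFiniteType q] (n : ℕ) :
    IsClosed (BSet q Set.univ n) := by
  rcases Nat.eq_zero_or_pos n with h | h
  · subst h
    have : BSet q Set.univ 0 = Set.univ := by
      ext x
      simp only [Set.mem_univ, iff_true]
      exact ⟨x, trivial, specializes_refl x, rfl, by simp⟩
    rw [this]
    exact isClosed_univ
  · obtain ⟨m, rfl⟩ : ∃ m, n = m + 1 := ⟨n - 1, by omega⟩
    have : BSet q Set.univ (m + 1) = {x | FlatMor.fibreDimAt q x ≤ m}ᶜ := by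
      ext x
      change _ ↔ ¬ FlatMor.fibreDimAt q x ≤ m
      rw [not_fibreDimAt_le_iff]
      exact ⟨fun ⟨z, _, h1, h2, h3⟩ => ⟨z, h1, h2, h3⟩, fun ⟨z, h1, h2, h3⟩ => ⟨z, trivial, h1, h2, h3⟩⟩
    rw [this]
    exact (Groth.Agent.S0402.result q m).isClosed_compl

theorem isClosed_BSet (q : X ⟶ T) [LocallyOfFiniteType q] (Z : Set X) (hZ : IsClosed Z) (n : ℕ) :
    IsClosed (BSet q Z n) := by
  let J := Scheme.IdealSheafData.vanishingIdeal ⟨Z, hZ⟩
  have hr : Set.range J.subschemeι = Z := by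
    rw [Scheme.IdealSheafData.range_subschemeι]
    exact Scheme.IdealSheafData.coe_support_vanishingIdeal _
  have hcl := isClosed_BSet_univ (J.subschemeι ≫ q) n
  have h1 : BSet q Z n = J.subschemeι '' (BSet (J.subschemeι ≫ q) Set.univ n) := by
    have hrtd : ∀ w, rtd (J.subschemeι ≫ q) w = rtd q (J.subschemeι w) := fun w => by
      rw [rtd_comp, rtd_eq_zero_of_isPreimmersion J.subschemeι, add_zero]
    ext x
    constructor
    · rintro ⟨z, hz, h1, h2, h3⟩
      have hx : x ∈ Z := h1.mem_closed hZ hz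
      rw [← hr] at hz hx
      obtain ⟨z', rfl⟩ := hz
      obtain ⟨x', rfl⟩ := hx
      refine ⟨x', ⟨z', trivial, J.subschemeι.isEmbedding.isInducing.specializes_iff.1 h1, ?_, ?_⟩, rfl⟩
      · rw [Scheme.Hom.comp_apply, Scheme.Hom.comp_apply, h2]
      · rw [hrtd]
        exact h3
    · rintro ⟨x', ⟨z', -, h1, h2, h3⟩, rfl⟩
      refine ⟨J.subschemeι z', ?_, h1.map J.subschemeι.continuous, ?_, ?_⟩
      · rw [← hr]
        exact ⟨z', rfl⟩
      · rw [← Scheme.Hom.comp_apply, ← Scheme.Hom.comp_apply, h2]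
      · rw [← hrtd]
        exact h3
  rw [h1]
  exact J.subschemeι.isClosedEmbedding.isClosedMap _ hcl

end K256.DimClosed
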