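import Groth.Agent.FlatMor.K256.ModBC
import Groth.Agent.Flat2C.StrictMPull
import Mathlib.AlgebraicGeometry.Morphisms.Etale

/-!
# Base change to `T` of `h : X' ⟶ X` and of the pullback `h^* F`

For `f : X ⟶ S`, `h : X' ⟶ X` and `T` over `S`: the morphism `kT f h T : X'_T ⟶ X_T`, which is the base
change of `h`, and the isomorphism `(X'_T ⟶ X_T)^* F_T ≅ (h^* F)_T`.
* `flatOverAt_up` : if `F_T` is flat over `T` at the image of `x'` and `h` is flat, so is `(h^* F)_T` at `x'`.
* `flatOverAt_down` : the converse.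
-/

set_option autoImplicit false
universe u
open CategoryTheory CategoryTheory.Limits AlgebraicGeometry Opposite

namespace K256.SrcPull

open Groth.Agent.Fdesc.PullbackStalk

section General

variable {Y X S : Scheme.{u}}

/-- Flatness over the base is inherited by the pullback along a flat morphism of sources. -/
theorem isFlatOverAt_flat_source (c : Y ⟶ X) [Flat c] (p : X ⟶ S) (M : X.Modules) (y : Y)
    (h : FlatMod.IsFlatOverAt p M (c.base y)) :
    FlatMod.IsFlatOverAt (c ≫ p) ((Scheme.Modules.pullback c).obj M) y := by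
  let := stalkAlg c y
  let := stalkAlg p (c.base y)
  let i1 : Algebra (S.presheaf.stalk (p.base (c.base y))) (Y.presheaf.stalk y) :=
    (p.stalkMap (c.base y) ≫ c.stalkMap y).hom.toAlgebra
  have : IsScalarTower (S.presheaf.stalk (p.base (c.base y))) (X.presheaf.stalk (c.base y))
    (Y.presheaf.stalk y) := IsScalarTower.of_algebraMap_eq fun _ => rfl
  let := FlatMod.moduleStalkOver p M (c.base y)
  have := isScalarTower p M (c.base y)
  have : Module.FaithfullyFlat (X.presheaf.stalk (c.base y)) (Y.presheaf.stalk y) :=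
    Groth.Agent.Fdesc.StalkExt.faithfullyFlat_stalkMap c y
  let i2 : Module (S.presheaf.stalk (p.base (c.base y)))
      (((Scheme.Modules.pullback c).obj M).presheaf.stalk y) :=
    FlatMod.moduleStalkOver (c ≫ p) ((Scheme.Modules.pullback c).obj M) y
  have : IsScalarTower (S.presheaf.stalk (p.base (c.base y))) (Y.presheaf.stalk y)
      (((Scheme.Modules.pullback c).obj M).presheaf.stalk y) := by
    refine IsScalarTower.of_algebraMap_smul fun r m => ?_
    change (c.stalkMap y) ((p.stalkMap (c.base y)) r) • m = ((c ≫ p).stalkMap y) r • m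
    congr 1
    exact (ConcreteCategory.congr_hom (Scheme.Hom.stalkMap_comp c p y) r).symm
  have h' : Module.Flat (S.presheaf.stalk (p.base (c.base y)))
      (M.presheaf.stalk (c.base y)) := h
  have : Module.Flat (S.presheaf.stalk (p.base (c.base y)))
      (TensorProduct (X.presheaf.stalk (c.base y)) (Y.presheaf.stalk y)
        (M.presheaf.stalk (c.base y))) :=
    Groth.Agent.Fdesc.FlatAlg.flat_tensor_of_flat
  have key : Module.Flat (S.presheaf.stalk (p.base (c.base y)))
      (((Scheme.Modules.pullback c).obj M).presheaf.stalk y) :=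
    Module.Flat.of_linearEquiv ((stalkPullbackEquiv c M y).symm.restrictScalars
      (S.presheaf.stalk (p.base (c.base y))))
  exact key

end General

variable {X X' S : Scheme.{u}} (f : X ⟶ S) (h : X' ⟶ X) (T : Over S)

/-- `X'_T ⟶ X_T`. -/
noncomputable def kT : PicF.XT (h ≫ f) T ⟶ PicF.XT f T :=
  pullback.map (h ≫ f) T.hom f T.hom h (𝟙 _) (𝟙 _) (by simp) (by simp)

@[reassoc (attr := simp)]
theorem kT_fst : kT f h T ≫ pullback.fst f T.hom = pullback.fst (h ≫ f) T.hom ≫ h :=
  pullback.lift_fst _ _ _

@[reassoc (attr := simp)]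
theorem kT_snd : kT f h T ≫ PicF.XTproj f T = PicF.XTproj (h ≫ f) T :=
  (pullback.lift_snd _ _ _).trans (Category.comp_id _)

theorem isPullback_kT : IsPullback (kT f h T) (pullback.fst (h ≫ f) T.hom) (pullback.fst f T.hom) h := by
  have h1 : IsPullback (pullback.snd (h ≫ f) T.hom) (pullback.fst (h ≫ f) T.hom) T.hom (h ≫ f) :=
    (IsPullback.of_hasPullback _ _).flip
  have h2 : IsPullback (pullback.snd f T.hom) (pullback.fst f T.hom) T.hom f :=
    (IsPullback.of_hasPullback _ _).flip
  refine IsPullback.of_right (t := h2) ?_ (kT_fst f h T)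
  have h3 : kT f h T ≫ pullback.snd f T.hom = pullback.snd (h ≫ f) T.hom := kT_snd f h T
  rw [h3]
  exact h1

/-- `(X'_T ⟶ X_T)^* F_T ≅ (h^* F)_T`. -/
noncomputable def isoET (F : X.Modules) :
    (Scheme.Modules.pullback (kT f h T)).obj (FGA.ET f F T) ≅
      FGA.ET (h ≫ f) ((Scheme.Modules.pullback h).obj F) T :=
  (Scheme.Modules.pullbackComp (kT f h T) (pullback.fst f T.hom)).app F ≪≫
    (Scheme.Modules.pullbackCongr (kT_fst f h T)).app F ≪≫
      ((Scheme.Modules.pullbackComp (pullback.fst (h ≫ f) T.hom) h).app F).symm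

theorem flat_kT [Flat h] : Flat (kT f h T) :=
  MorphismProperty.of_isPullback (isPullback_kT f h T).flip inferInstance

theorem etale_kT [Etale h] : Etale (kT f h T) :=
  MorphismProperty.of_isPullback (isPullback_kT f h T).flip inferInstance

theorem isFlatOverAt_congr {X S : Scheme.{u}} {p q : X ⟶ S} (h : p = q) (M : X.Modules) (x : X) :
    FlatMod.IsFlatOverAt p M x ↔ FlatMod.IsFlatOverAt q M x := by
  subst h
  rfl

theorem flatOverAt_iff [Flat h] (F : X.Modules) (x : PicF.XT (h ≫ f) T) :
    FlatMod.IsFlatOverAt (PicF.XTproj (h ≫ f) T)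
      (FGA.ET (h ≫ f) ((Scheme.Modules.pullback h).obj F) T) x ↔
    FlatMod.IsFlatOverAt (PicF.XTproj f T) (FGA.ET f F T) ((kT f h T).base x) := by
  have := flat_kT f h T
  constructor
  · intro hx
    refine Groth.Agent.Flat2C.StrictMPull.isFlatOverAt_of_flat_source (kT f h T) _ _ x ?_
    rw [isFlatOverAt_congr (kT_snd f h T)]
    exact Groth.Agent.Models2.FlatIso.isFlatOverAt_of_iso _ (isoET f h T F).symm x hx
  · intro hx
    have h1 := isFlatOverAt_flat_source (kT f h T) _ _ x hx
    rw [isFlatOverAt_congr (kT_snd f h T)] at h1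
    exact Groth.Agent.Models2.FlatIso.isFlatOverAt_of_iso _ (isoET f h T F) x h1

end K256.SrcPull
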