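import Groth.Agent.Fdesc.StalkExt
import Groth.Agent.Sga67.FlatPre
import Groth.Agent.Ega1.FTStalkFin
import Groth.Agent.Flat2F.SecBasis2

/-!
# Morphisms of modules and pullback along a morphism flat at a point

* `stalkPullback_square`: the map on the stalk of the pullback is the base change of the map on the stalk.
* `injective_iff`, `surjective_iff`, `bijective_iff`, `eq_zero_iff`: along a flat morphism these properties
  of the map on stalks may be checked after pullback.
* `mono_iff_of_cover`, `epi_iff_of_cover`, `isIso_iff_of_cover`, `eq_zero_iff_of_cover`: a morphism of modules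
  is mono, epi, iso, zero if its pullback along a jointly surjective family of flat morphisms is.
-/

set_option autoImplicit false
set_option linter.style.haveILetI false
universe u
open CategoryTheory AlgebraicGeometry TensorProduct

namespace K256.StalkPull

open Groth.Agent.Fdesc.Skyscraper Groth.Agent.Fdesc.PullbackStalk Groth.Agent.Fdesc.StalkExt
open Groth.Agent.Sga67.FlatPre Groth.Agent.Ega1.FTStalkFin

variable {X Y : Scheme.{u}} (f : X ⟶ Y) {M N : Y.Modules} (φ : M ⟶ N)

theorem stalkPullback_square (x : X) :
    letI := stalkAlg f x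
    ∀ t : X.presheaf.stalk x ⊗[Y.presheaf.stalk (f.base x)] M.presheaf.stalk (f.base x),
      stalkMap ((Scheme.Modules.pullback f).map φ) x (stalkPullbackEquiv f M x t) =
        stalkPullbackEquiv f N x
          (LinearMap.lTensor (X.presheaf.stalk x) (stalkMap φ (f.base x)) t) := by
  letI := stalkAlg f x
  intro t
  induction t using TensorProduct.induction_on with
  | zero => simp
  | tmul a m =>
    rw [LinearMap.lTensor_tmul, stalkPullbackEquiv_tmul, stalkPullbackEquiv_tmul, map_smul,
      stalkMap_pullback_canAdd]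
  | add a b ha hb => simp only [map_add, ha, hb]

theorem injective_iff' (x : X) :
    letI := stalkAlg f x
    Function.Injective (stalkMap ((Scheme.Modules.pullback f).map φ) x) ↔
      Function.Injective (LinearMap.lTensor (X.presheaf.stalk x) (stalkMap φ (f.base x))) := by
  letI := stalkAlg f x
  have h := stalkPullback_square f φ x
  constructor
  · intro h1 a b hab
    apply (stalkPullbackEquiv f M x).injective
    apply h1
    rw [h, h, hab]
  · intro h1 a b hab
    obtain ⟨a, rfl⟩ := (stalkPullbackEquiv f M x).surjective a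
    obtain ⟨b, rfl⟩ := (stalkPullbackEquiv f M x).surjective b
    rw [h, h] at hab
    exact congrArg _ (h1 ((stalkPullbackEquiv f N x).injective hab))

theorem surjective_iff' (x : X) :
    letI := stalkAlg f x
    Function.Surjective (stalkMap ((Scheme.Modules.pullback f).map φ) x) ↔
      Function.Surjective (LinearMap.lTensor (X.presheaf.stalk x) (stalkMap φ (f.base x))) := by
  letI := stalkAlg f x
  have h := stalkPullback_square f φ x
  constructor
  · intro h1 b
    obtain ⟨a, ha⟩ := h1 (stalkPullbackEquiv f N x b)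
    obtain ⟨a, rfl⟩ := (stalkPullbackEquiv f M x).surjective a
    rw [h] at ha
    exact ⟨a, (stalkPullbackEquiv f N x).injective ha⟩
  · intro h1 b
    obtain ⟨b, rfl⟩ := (stalkPullbackEquiv f N x).surjective b
    obtain ⟨a, rfl⟩ := h1 b
    exact ⟨_, h a⟩

theorem eq_zero_iff' (x : X) :
    letI := stalkAlg f x
    stalkMap ((Scheme.Modules.pullback f).map φ) x = 0 ↔
      LinearMap.lTensor (X.presheaf.stalk x) (stalkMap φ (f.base x)) = 0 := by
  letI := stalkAlg f x
  have h := stalkPullback_square f φ x
  constructor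
  · intro h1
    ext1
    refine LinearMap.ext fun a => LinearMap.ext fun b => ?_
    apply (stalkPullbackEquiv f N x).injective
    have h2 := h (a ⊗ₜ b)
    rw [h1, LinearMap.zero_apply] at h2
    exact h2.symm.trans (map_zero _).symm
  · intro h1
    refine LinearMap.ext fun a => ?_
    obtain ⟨a, rfl⟩ := (stalkPullbackEquiv f M x).surjective a
    rw [h, h1]
    simp

theorem injective_iff [Flat f] (x : X) :
    Function.Injective (stalkMap ((Scheme.Modules.pullback f).map φ) x) ↔
      Function.Injective (stalkMap φ (f.base x)) := by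
  letI := stalkAlg f x
  haveI := faithfullyFlat_stalkMap f x
  rw [injective_iff' f φ x, Module.FaithfullyFlat.lTensor_injective_iff_injective]

theorem surjective_iff [Flat f] (x : X) :
    Function.Surjective (stalkMap ((Scheme.Modules.pullback f).map φ) x) ↔
      Function.Surjective (stalkMap φ (f.base x)) := by
  letI := stalkAlg f x
  haveI := faithfullyFlat_stalkMap f x
  rw [surjective_iff' f φ x, Module.FaithfullyFlat.lTensor_surjective_iff_surjective]

theorem bijective_iff [Flat f] (x : X) :
    Function.Bijective (stalkMap ((Scheme.Modules.pullback f).map φ) x) ↔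
      Function.Bijective (stalkMap φ (f.base x)) :=
  and_congr (injective_iff f φ x) (surjective_iff f φ x)

theorem eq_zero_iff [Flat f] (x : X) :
    stalkMap ((Scheme.Modules.pullback f).map φ) x = 0 ↔ stalkMap φ (f.base x) = 0 := by
  letI := stalkAlg f x
  haveI := faithfullyFlat_stalkMap f x
  rw [eq_zero_iff' f φ x, ← Module.FaithfullyFlat.zero_iff_lTensor_zero]

theorem isIso_iff_stalkMap {X : Scheme.{u}} {M N : X.Modules} (φ : M ⟶ N) :
    IsIso φ ↔ ∀ x, Function.Bijective (stalkMap φ x) :=
  ⟨fun _ x => Groth.Agent.Flat2F.SecBasis.stalkMap_bijective_of_isIso φ x,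
    isIso_of_stalkMap_bijective φ⟩

theorem stalkMap_zero {X : Scheme.{u}} {M N : X.Modules} (x : X) :
    stalkMap (0 : M ⟶ N) x = 0 := by
  refine LinearMap.ext fun t => ?_
  obtain ⟨U, hU, s, rfl⟩ := TopCat.Presheaf.exists_germ_eq M.presheaf t
  rw [stalkMap_germ]
  exact map_zero _

theorem eq_zero_iff_stalkMap {X : Scheme.{u}} {M N : X.Modules} (φ : M ⟶ N) :
    φ = 0 ↔ ∀ x, stalkMap φ x = 0 := by
  constructor
  · rintro rfl x
    exact stalkMap_zero x
  · intro h
    exact hom_ext_stalk φ 0 fun x => (h x).trans (stalkMap_zero x).symm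

section Cover

theorem mono_of_cover (h : ∀ y : Y, ∃ (X : Scheme.{u}) (f : X ⟶ Y) (x : X), Flat f ∧ f.base x = y ∧
    Mono ((Scheme.Modules.pullback f).map φ)) : Mono φ := by
  rw [mono_iff_stalkMap_injective]
  intro y
  obtain ⟨X, f, x, _, rfl, hx⟩ := h y
  exact (injective_iff f φ x).1 ((mono_iff_stalkMap_injective _).1 hx x)

theorem epi_of_cover (h : ∀ y : Y, ∃ (X : Scheme.{u}) (f : X ⟶ Y) (x : X), Flat f ∧ f.base x = y ∧
    Epi ((Scheme.Modules.pullback f).map φ)) : Epi φ := by
  rw [epi_iff_stalkMap_surjective]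
  intro y
  obtain ⟨X, f, x, _, rfl, hx⟩ := h y
  exact (surjective_iff f φ x).1 ((epi_iff_stalkMap_surjective _).1 hx x)

theorem isIso_of_cover (h : ∀ y : Y, ∃ (X : Scheme.{u}) (f : X ⟶ Y) (x : X), Flat f ∧ f.base x = y ∧
    IsIso ((Scheme.Modules.pullback f).map φ)) : IsIso φ := by
  rw [isIso_iff_stalkMap]
  intro y
  obtain ⟨X, f, x, _, rfl, hx⟩ := h y
  exact (bijective_iff f φ x).1 ((isIso_iff_stalkMap _).1 hx x)

theorem eq_zero_of_cover (h : ∀ y : Y, ∃ (X : Scheme.{u}) (f : X ⟶ Y) (x : X), Flat f ∧
    f.base x = y ∧ (Scheme.Modules.pullback f).map φ = 0) : φ = 0 := by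
  rw [eq_zero_iff_stalkMap]
  intro y
  obtain ⟨X, f, x, _, rfl, hx⟩ := h y
  exact (eq_zero_iff f φ x).1 ((eq_zero_iff_stalkMap _).1 hx x)

end Cover

end K256.StalkPull
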