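import Groth.Agent.FlatMor.K256.WeilClosed
import Groth.Agent.Flat2B.GenPt
import Groth.Agent.Flat2A.GeomInt

/-!
# Vanishing of functions on base changes of a projective algebra with geometrically integral fibres
-/

set_option autoImplicit false
set_option linter.style.haveILetI false
universe u
open CategoryTheory CategoryTheory.Limits AlgebraicGeometry Opposite TensorProduct

namespace K256.ChartVan

open K256.WeilClosed

section ring

/-- `B` is projective over `A` -/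
def IsProj {A B : Type u} [CommRing A] [CommRing B] (φ : A →+* B) : Prop :=
  letI := φ.toAlgebra
  Module.Projective A B

/-- `Spec B ⟶ Spec A` has geometrically integral fibres -/
def IsGI {A B : Type u} [CommRing A] [CommRing B] (φ : A →+* B) : Prop :=
  letI := φ.toAlgebra
  FlatCA.GeomIntegralFibres A B

/-- the ideal generated by the values on `J` of the linear forms -/
def coeff {A B : Type u} [CommRing A] [CommRing B] (φ : A →+* B) (J : Ideal B) : Ideal A :=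
  letI := φ.toAlgebra
  coeffIdeal A J

theorem coeff_fg {A B : Type u} [CommRing A] [CommRing B] {φ : A →+* B} (hφ : IsProj φ) {J : Ideal B}
    (hJ : J.FG) : (coeff φ J).FG := by
  letI := φ.toAlgebra
  have : Module.Projective A B := hφ
  exact coeffIdeal_fg J hJ

variable {A B C D : CommRingCat.{u}} {φ : A ⟶ B} {c : A ⟶ C} {d : B ⟶ D} {e : C ⟶ D}
  (H : IsPushout φ c d e)

include H

theorem forall_eq_zero_iff (hφ : IsProj φ.hom) (J : Ideal B) :
    (∀ b ∈ J, d.hom b = 0) ↔ ∀ a ∈ coeff φ.hom J, c.hom a = 0 := by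
  letI := φ.hom.toAlgebra
  have : Module.Projective A B := hφ
  have h1 : ∀ b : B, d.hom b = 0 ↔ ∀ ψ : B →ₗ[A] A, c.hom (ψ b) = 0 :=
    fun b => pushout_eq_zero_iff (A := A) (B := B) (C := C) (D := D) c d e H b
  constructor
  · intro h a ha
    change a ∈ RingHom.ker c.hom
    refine (Ideal.span_le.2 ?_ : coeffIdeal A J ≤ _) ha
    rintro _ ⟨ψ, b, hb, rfl⟩
    exact (h1 b).1 (h b hb) ψ
  · intro h b hb
    exact (h1 b).2 fun ψ => h _ (Ideal.subset_span ⟨ψ, b, hb, rfl⟩)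

theorem eq_zero_of_generic (hφ : IsProj φ.hom) (hgi : IsGI φ.hom) (x : D)
    (hx : ∀ t : PrimeSpectrum C, ∃ η : PrimeSpectrum D, PrimeSpectrum.comap e.hom η = t ∧
      ∃ k ∉ η.asIdeal, k * x = 0) : x = 0 := by
  letI := φ.hom.toAlgebra
  letI := c.hom.toAlgebra
  letI := d.hom.toAlgebra
  letI := e.hom.toAlgebra
  letI : Algebra A D := (d.hom.comp (algebraMap A B)).toAlgebra
  have hp : Module.Projective A B := hφ
  have i1 : IsScalarTower A B D := IsScalarTower.of_algebraMap_eq fun _ => rfl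
  have i2 : IsScalarTower A C D := IsScalarTower.of_algebraMap_eq fun x => by
    have := congrArg (fun t => t.hom x) H.w
    exact this
  have H' : IsPushout (CommRingCat.ofHom (algebraMap A B)) (CommRingCat.ofHom (algebraMap A C))
      (CommRingCat.ofHom (algebraMap B D)) (CommRingCat.ofHom (algebraMap C D)) := H
  have h3 : Algebra.IsPushout A B C D := CommRingCat.isPushout_iff_isPushout.1 H'
  have h3' : Algebra.IsPushout A C B D := h3.symm
  have hgiD : FlatCA.GeomIntegralFibres C D := Groth.Agent.Flat2A.GeomInt.baseChange hgi C D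
  have hpD : Module.Projective C D := Module.Projective.of_equiv h3'.out.equiv
  have key : ∀ t : PrimeSpectrum C, ∃ a ∉ t.asIdeal, a • x = 0 := by
    intro t
    obtain ⟨η, hη, k, hk, hkx⟩ := hx t
    refine Groth.Agent.Flat2B.GenPt.exists_smul_eq_zero hgiD t.asIdeal k x (fun hk' => hk ?_) hkx
    refine (Ideal.map_le_iff_le_comap.2 ?_) hk'
    rw [← hη]
    rfl
  let I : Ideal C := LinearMap.ker (LinearMap.toSpanSingleton C D x)
  have hI : I = ⊤ := by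
    by_contra hne
    obtain ⟨m, hm, hle⟩ := Ideal.exists_le_maximal I hne
    obtain ⟨a, ha, hax⟩ := key ⟨m, hm.isPrime⟩
    exact ha (hle hax)
  have h1 : (1 : C) ∈ I := by rw [hI]; trivial
  have h2 : (1 : C) • x = 0 := h1
  rwa [one_smul] at h2

end ring

section scheme

variable {X S T Y : Scheme.{u}} {f : X ⟶ S} {h : T ⟶ S} {g : Y ⟶ X} {q : Y ⟶ T} (H : IsPullback g q f h)
  {W : S.Opens} {U : X.Opens} (hW : IsAffineOpen W) (hU : IsAffineOpen U) (hUW : U ≤ f ⁻¹ᵁ W)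

include H hW hU in
theorem isPushout_appLE (V : T.Opens) (hV : IsAffineOpen V) (hVW : V ≤ h ⁻¹ᵁ W) :
    IsPushout (f.appLE W U hUW) (h.appLE W V hVW) (g.appLE U (g ⁻¹ᵁ U ⊓ q ⁻¹ᵁ V) inf_le_left)
      (q.appLE V (g ⁻¹ᵁ U ⊓ q ⁻¹ᵁ V) inf_le_right) :=
  (isIso_pushoutSection_iff H hVW hUW rfl).mp
    (isIso_pushoutSection_of_isAffineOpen H hVW hUW rfl hW hV hU)

include H hW hU hUW in
theorem isAffineOpen_inf (V : T.Opens) (hV : IsAffineOpen V) (hVW : V ≤ h ⁻¹ᵁ W) :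
    IsAffineOpen (g ⁻¹ᵁ U ⊓ q ⁻¹ᵁ V) := by
  have : IsAffine _ := hW
  have : IsAffine _ := hV
  have : IsAffine _ := hU
  exact .of_isIso (Scheme.Hom.isPullback_resLE H hVW hUW rfl).isoPullback.hom

theorem exists_primeIdealOf {X : Scheme.{u}} {U : X.Opens} (hU : IsAffineOpen U) (Q : PrimeSpectrum Γ(X, U)) :
    ∃ (x : X) (hx : x ∈ U), hU.primeIdealOf ⟨x, hx⟩ = Q := by
  have hmem : hU.fromSpec.base Q ∈ U := by
    have : hU.fromSpec.base Q ∈ Set.range hU.fromSpec.base := ⟨Q, rfl⟩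
    rw [hU.range_fromSpec] at this
    exact this
  refine ⟨hU.fromSpec.base Q, hmem, ?_⟩
  apply hU.fromSpec.isOpenEmbedding.injective
  exact hU.fromSpec_primeIdealOf ⟨_, hmem⟩

/-- functions over the preimage of `U` can be tested over the affine opens of `T` -/
theorem app_eq_zero_iff (b : Γ(X, U)) : g.app U b = 0 ↔
    ∀ V : T.affineOpens, g.appLE U (g ⁻¹ᵁ U ⊓ q ⁻¹ᵁ (V : T.Opens)) inf_le_left b = 0 := by
  have hc : (g ⁻¹ᵁ U : Y.Opens) ≤ ⨆ V : T.affineOpens, (g ⁻¹ᵁ U ⊓ q ⁻¹ᵁ (V : T.Opens)) := by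
    intro y hy
    obtain ⟨V, hV, hyV, -⟩ := exists_isAffineOpen_mem_and_subset (x := q.base y) (U := ⊤) trivial
    exact TopologicalSpace.Opens.mem_iSup.2 ⟨⟨V, hV⟩, hy, hyV⟩
  have h1 : ∀ V : T.affineOpens, g.appLE U (g ⁻¹ᵁ U ⊓ q ⁻¹ᵁ (V : T.Opens)) inf_le_left b =
      Y.presheaf.map (homOfLE (inf_le_left : g ⁻¹ᵁ U ⊓ q ⁻¹ᵁ (V : T.Opens) ≤ g ⁻¹ᵁ U)).op (g.app U b) := by
    intro V
    rw [← ConcreteCategory.comp_apply, Scheme.Hom.app_eq_appLE, Scheme.Hom.appLE_map]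
  constructor
  · intro h V
    rw [h1, h]
    exact map_zero (Y.presheaf.map _).hom
  · intro h
    refine TopCat.Sheaf.eq_of_locally_eq' Y.sheaf (fun V : T.affineOpens => g ⁻¹ᵁ U ⊓ q ⁻¹ᵁ (V : T.Opens))
      (g ⁻¹ᵁ U) (fun V => homOfLE inf_le_left) hc _ _ fun V => ?_
    refine Eq.trans ?_ (map_zero (Y.presheaf.map (homOfLE
      (inf_le_left : g ⁻¹ᵁ U ⊓ q ⁻¹ᵁ (V : T.Opens) ≤ g ⁻¹ᵁ U)).op).hom).symm
    exact (h1 V).symm.trans (h V)

include H hW hU in
/-- vanishing of the functions in `J` on the base change, in terms of the base -/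
theorem forall_app_eq_zero_iff (hφ : IsProj (f.appLE W U hUW).hom) (hT : ∀ t : T, h.base t ∈ W)
    (J : Ideal Γ(X, U)) :
    (∀ b ∈ J, g.app U b = 0) ↔ ∀ a ∈ coeff (f.appLE W U hUW).hom J, ∀ V : T.affineOpens,
      h.appLE W V (fun t _ => hT t) a = 0 := by
  have h1 : ∀ V : T.affineOpens, (∀ b ∈ J, g.appLE U (g ⁻¹ᵁ U ⊓ q ⁻¹ᵁ (V : T.Opens)) inf_le_left b = 0) ↔
      ∀ a ∈ coeff (f.appLE W U hUW).hom J, h.appLE W V (fun t _ => hT t) a = 0 := fun V =>
    forall_eq_zero_iff (isPushout_appLE H hW hU hUW V V.2 fun t _ => hT t) hφ J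
  constructor
  · intro h' a ha V
    exact (h1 V).1 (fun b hb => (app_eq_zero_iff b).1 (h' b hb) V) a ha
  · intro h' b hb
    refine (app_eq_zero_iff b).2 fun V => (h1 V).2 (fun a ha => h' a ha V) b hb

include H hW hU in
/-- a function on the base change which vanishes near some point of each fibre vanishes -/
theorem app_eq_zero_of_generic (hφ : IsProj (f.appLE W U hUW).hom) (hgi : IsGI (f.appLE W U hUW).hom)
    (hT : ∀ t : T, h.base t ∈ W) (b : Γ(X, U))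
    (hb : ∀ t : T, ∃ (y : Y) (hy : g.base y ∈ U), q.base y = t ∧
      Y.presheaf.germ (g ⁻¹ᵁ U) y hy (g.app U b) = 0) : g.app U b = 0 := by
  rw [app_eq_zero_iff (q := q)]
  intro V
  have hUV : IsAffineOpen (g ⁻¹ᵁ U ⊓ q ⁻¹ᵁ (V : T.Opens)) :=
    isAffineOpen_inf H hW hU hUW V V.2 fun t _ => hT t
  refine eq_zero_of_generic (isPushout_appLE H hW hU hUW V V.2 fun t _ => hT t) hφ hgi _ fun p => ?_
  obtain ⟨t, htV, ht⟩ := exists_primeIdealOf V.2 p
  obtain ⟨y, hy, hyt, hb0⟩ := hb t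
  have hyV : y ∈ q ⁻¹ᵁ (V : T.Opens) := by
    change q.base y ∈ (V : T.Opens)
    rw [hyt]
    exact htV
  refine ⟨hUV.primeIdealOf ⟨y, hy, hyV⟩, ?_, ?_⟩
  · have h1 := IsAffineOpen.comap_primeIdealOf_appLE (f := q) (x := y) (V : T.Opens) V.2
      (g ⁻¹ᵁ U ⊓ q ⁻¹ᵁ (V : T.Opens)) hUV inf_le_right ⟨hy, hyV⟩
    rw [h1, ← ht]
    subst hyt
    rfl
  · let := TopCat.Presheaf.algebra_section_stalk Y.presheaf
      (⟨y, hy, hyV⟩ : (g ⁻¹ᵁ U ⊓ q ⁻¹ᵁ (V : T.Opens) : Y.Opens))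
    have hloc : IsLocalization.AtPrime (Y.presheaf.stalk y) (hUV.primeIdealOf ⟨y, hy, hyV⟩).asIdeal :=
      hUV.isLocalization_stalk ⟨y, hy, hyV⟩
    have h2 : algebraMap Γ(Y, g ⁻¹ᵁ U ⊓ q ⁻¹ᵁ (V : T.Opens)) (Y.presheaf.stalk y)
        (g.appLE U (g ⁻¹ᵁ U ⊓ q ⁻¹ᵁ (V : T.Opens)) inf_le_left b) = 0 := by
      refine Eq.trans ?_ hb0
      have hm : y ∈ g ⁻¹ᵁ U ⊓ q ⁻¹ᵁ (V : T.Opens) := ⟨hy, hyV⟩
      exact TopCat.Presheaf.germ_res_apply Y.presheaf (homOfLE (inf_le_left :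
        g ⁻¹ᵁ U ⊓ q ⁻¹ᵁ (V : T.Opens) ≤ g ⁻¹ᵁ U)) y hm (g.app U b)
    rw [IsLocalization.map_eq_zero_iff (hUV.primeIdealOf ⟨y, hy, hyV⟩).asIdeal.primeCompl] at h2
    obtain ⟨k, hk⟩ := h2
    exact ⟨k, k.2, hk⟩

end scheme

end K256.ChartVan
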