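import Groth.Agent.FlatMor.K256.StalkBas
import Groth.Agent.FlatMor.K256.ModBC
import Mathlib.AlgebraicGeometry.Geometrically.Irreducible

/-!
# The condition "free of rank `p` near the generic points of the fibres"

* `exists_generic`: geometrically irreducible morphisms have generic points of fibres;
* `stable`: stability under base change;
* `of_openCover`: Zariski locality on the base.
-/

set_option autoImplicit false
universe u
open CategoryTheory CategoryTheory.Limits AlgebraicGeometry Opposite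

namespace K256.HpStab

open Groth.Agent.Flat2F.SecBasis

section generic

variable {X T : Scheme.{u}}

theorem exists_generic (q : X ⟶ T) [GeometricallyIrreducible q] (t : T) :
    ∃ x : X, q.base x = t ∧ FlatFun.IsGenericPtOfFibre q x := by
  have hx : q.base ((q.fiberι t).base (genericPoint (q.fiber t))) = t := by
    have : (q.fiberι t).base (genericPoint (q.fiber t)) ∈ Set.range (q.fiberι t).base := ⟨_, rfl⟩
    rw [Scheme.Hom.range_fiberι] at this
    exact this
  refine ⟨(q.fiberι t).base (genericPoint (q.fiber t)), hx, fun x' hx' => ?_⟩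
  rw [hx] at hx'
  have h1 : x' ∈ Set.range (q.fiberι t).base := by
    rw [Scheme.Hom.range_fiberι]
    exact hx'
  obtain ⟨z, rfl⟩ := h1
  exact (genericPoint_specializes z).map (q.fiberι t).continuous

/-- an open set meeting the fibre contains the generic point of the fibre -/
theorem generic_mem {q : X ⟶ T} {x : X} (hx : FlatFun.IsGenericPtOfFibre q x) {U : X.Opens} {y : X}
    (hy : y ∈ U) (h : q.base y = q.base x) : x ∈ U :=
  (hx y h).mem_open U.2 hy

end generic

section free

variable {X Y : Scheme.{u}} {p : ℕ}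

theorem isFreeOfRankNear_iff (M : X.Modules) (x : X) : FlatFun.IsFreeOfRankNear M p x ↔
    ∃ (U : X.Opens) (s : Fin p → Γ(M, U)), x ∈ U ∧ BasOn M U s := by
  constructor
  · rintro ⟨U, hx, hU⟩
    rw [nonempty_restrict_iso_iff] at hU
    obtain ⟨s, hs⟩ := hU
    exact ⟨U, s, hx, hs⟩
  · rintro ⟨U, s, hx, hs⟩
    exact ⟨U, hx, (nonempty_restrict_iso_iff M U).2 ⟨s, hs⟩⟩

theorem isFreeOfRankNear_of_iso {M N : X.Modules} (e : M ≅ N) {x : X}
    (h : FlatFun.IsFreeOfRankNear M p x) : FlatFun.IsFreeOfRankNear N p x := by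
  rw [isFreeOfRankNear_iff] at h ⊢
  obtain ⟨U, s, hx, hs⟩ := h
  exact ⟨U, _, hx, hs.map_iso e⟩

theorem isFreeOfRankNear_pullback (g : Y ⟶ X) (M : X.Modules) (y : Y)
    (h : FlatFun.IsFreeOfRankNear M p (g.base y)) :
    FlatFun.IsFreeOfRankNear ((Scheme.Modules.pullback g).obj M) p y := by
  rw [isFreeOfRankNear_iff] at h ⊢
  obtain ⟨U, s, hx, hs⟩ := h
  exact ⟨g ⁻¹ᵁ U, _, hx, hs.pullback g⟩

theorem isFreeOfRankNear_of_restrict (j : Y ⟶ X) [IsOpenImmersion j] (M : X.Modules) (y : Y)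
    (e : M.restrict j ≅ FlatMod.freeMod Y p) : FlatFun.IsFreeOfRankNear M p (j.base y) := by
  rw [isFreeOfRankNear_iff]
  obtain ⟨s, hs⟩ := (nonempty_restrict_iso_iff' M j).1 ⟨e⟩
  exact ⟨j ''ᵁ ⊤, s, ⟨y, trivial, rfl⟩, hs⟩

theorem isFreeOfRankNear_of_openImmersion (j : Y ⟶ X) [IsOpenImmersion j] (M : X.Modules) (y : Y)
    (h : FlatFun.IsFreeOfRankNear ((Scheme.Modules.pullback j).obj M) p y) :
    FlatFun.IsFreeOfRankNear M p (j.base y) := by
  obtain ⟨U, hy, ⟨e⟩⟩ := h
  have h1 : (j.base y) = (U.ι ≫ j).base (⟨y, hy⟩ : U) := rfl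
  rw [h1]
  refine isFreeOfRankNear_of_restrict (U.ι ≫ j) M _ ?_
  refine (Scheme.Modules.restrictFunctorIsoPullback (U.ι ≫ j)).app M ≪≫ ?_ ≪≫ e
  exact (Scheme.Modules.pullbackComp U.ι j).symm.app M ≪≫
    ((Scheme.Modules.restrictFunctorIsoPullback U.ι).app _).symm

end free

section P

variable {X S : Scheme.{u}} (f : X ⟶ S) (F : X.Modules) (p : ℕ)

/-- the condition of the functor `H_p` -/
abbrev P (T : Over S) : Prop := FlatFun.FreeAtGenericPts (PicF.XTproj f T) (FGA.ET f F T) p

variable {f F p}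

theorem generic_XTmap {T T' : Over S} (g : T' ⟶ T) {x' : PicF.XT f T'}
    (hx' : FlatFun.IsGenericPtOfFibre (PicF.XTproj f T') x') :
    FlatFun.IsGenericPtOfFibre (PicF.XTproj f T) ((PicF.XTmap f g).base x') := by
  intro z hz
  have h1 : g.left.base ((PicF.XTproj f T').base x') = (PicF.XTproj f T).base ((PicF.XTmap f g).base x') :=
    congrArg (fun a : PicF.XT f T' ⟶ T.left => a.base x') (Groth.Agent.Picfga.HilbPull.isPullback_XTmap f g).w.symm
  obtain ⟨z', hz', hz'2⟩ := K256.ModBC.exists_lift f g z ((PicF.XTproj f T').base x') (h1.trans hz.symm)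
  have h2 := (hx' z' hz'2).map (PicF.XTmap f g).continuous
  rwa [hz'] at h2

theorem P_iff [GeometricallyIrreducible f] (T : Over S) : P f F p T ↔
    ∀ x : PicF.XT f T, FlatFun.IsGenericPtOfFibre (PicF.XTproj f T) x →
      FlatFun.IsFreeOfRankNear (FGA.ET f F T) p x := by
  constructor
  · intro h x hx
    obtain ⟨x₀, h1, h2, h3⟩ := h ((PicF.XTproj f T).base x)
    obtain ⟨U, hU, e⟩ := h3
    exact ⟨U, (hx x₀ h1).mem_open U.2 hU, e⟩
  · intro h t
    obtain ⟨x, h1, h2⟩ := exists_generic (PicF.XTproj f T) t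
    exact ⟨x, h1, h2, h x h2⟩

theorem stable [GeometricallyIrreducible f] {T T' : Over S} (g : T' ⟶ T) (h : P f F p T) : P f F p T' := by
  rw [P_iff] at h ⊢
  intro x' hx'
  exact isFreeOfRankNear_of_iso (FGA.ETiso f F g)
    (isFreeOfRankNear_pullback _ _ _ (h _ (generic_XTmap g hx')))

theorem of_openImmersion [GeometricallyIrreducible f] {T T' : Over S} (g : T' ⟶ T) [IsOpenImmersion g.left]
    (h : P f F p T') (t' : T'.left) : ∃ x : PicF.XT f T, (PicF.XTproj f T).base x = g.left.base t' ∧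
      FlatFun.IsGenericPtOfFibre (PicF.XTproj f T) x ∧ FlatFun.IsFreeOfRankNear (FGA.ET f F T) p x := by
  obtain ⟨x', h1, h2, h3⟩ := h t'
  have : IsOpenImmersion (PicF.XTmap f g) :=
    MorphismProperty.of_isPullback (P := @IsOpenImmersion) (Groth.Agent.Picfga.HilbPull.isPullback_XTmap f g).flip inferInstance
  refine ⟨(PicF.XTmap f g).base x', ?_, generic_XTmap g h2,
    isFreeOfRankNear_of_openImmersion _ _ _ (isFreeOfRankNear_of_iso (FGA.ETiso f F g).symm h3)⟩
  have h4 : g.left.base ((PicF.XTproj f T').base x') = (PicF.XTproj f T).base ((PicF.XTmap f g).base x') :=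
    congrArg (fun a : PicF.XT f T' ⟶ T.left => a.base x') (Groth.Agent.Picfga.HilbPull.isPullback_XTmap f g).w.symm
  rw [← h4, h1]

end P

end K256.HpStab
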