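import Groth.Agent.FlatMor.K256.FGen
import Groth.Agent.FlatMor.K256.ChartVan
import Groth.Agent.FlatMor.K256.HpStab
import Groth.Agent.Flat2B.ProjGeomInt

/-!
# Charts: affine opens `U` of `X`, `W` of `S` with `U ⟶ W` surjective and `p` sections generating `F|_U`
-/

set_option autoImplicit false
set_option linter.style.haveILetI false
universe u
open CategoryTheory CategoryTheory.Limits AlgebraicGeometry Opposite TopologicalSpace TensorProduct

namespace K256.ChartDef

open Groth.Agent.Flat2F.BasAlg Groth.Agent.Flat2F.SecBasis K256.RelIdeal K256.StalkBas K256.FGen K256.ChartVan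

variable {X S : Scheme.{u}}

/-- See the module docstring. -/
structure Chart (f : X ⟶ S) (F : X.Modules) (p : ℕ) where
  W : S.Opens
  U : X.Opens
  hW : IsAffineOpen W
  hU : IsAffineOpen U
  le : U ≤ f ⁻¹ᵁ W
  surj : ∀ y ∈ W, ∃ x ∈ U, f.base x = y
  s : Fin p → Γ(F, U)
  hs : Submodule.span Γ(X, U) (Set.range s) = ⊤

theorem exists_chart (f : X ⟶ S) (hf : IsOpenMap f.base) (F : X.Modules) (hF : Coh.IsQCoh F)
    (hft : CohB1.IsFT F) (p : ℕ) (x : X) (h : Gen F p x) : ∃ c : Chart f F p, x ∈ c.U := by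
  obtain ⟨W₀, hW₀, hxW₀, -⟩ := exists_isAffineOpen_mem_and_subset (x := f.base x) (U := ⊤) trivial
  obtain ⟨U₀, hU₀, hxU₀, hUW⟩ := exists_isAffineOpen_mem_and_subset (x := x) (U := f ⁻¹ᵁ W₀) hxW₀
  obtain ⟨s, a, hxa, hs⟩ := exists_generators F hF hft hU₀ hxU₀ ((gen_iff F hF hft hU₀ hxU₀).1 h)
  let V : S.Opens := ⟨f.base '' (X.basicOpen a : Set X), hf _ (X.basicOpen a).2⟩
  have hxV : f.base x ∈ V := ⟨x, hxa, rfl⟩
  obtain ⟨b, hb1, hb2⟩ := hW₀.exists_basicOpen_le (V := V) ⟨f.base x, hxV⟩ hxW₀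
  let b' : Γ(X, U₀) := f.appLE W₀ U₀ hUW b
  have hab : X.basicOpen (a * b') = X.basicOpen a ⊓ X.basicOpen b' := Scheme.basicOpen_mul X a b'
  have hb' : X.basicOpen b' = U₀ ⊓ f ⁻¹ᵁ (S.basicOpen b) := by
    rw [Scheme.preimage_basicOpen]
    exact Scheme.basicOpen_res X (f.app W₀ b) (homOfLE hUW).op
  refine ⟨{ W := S.basicOpen b, U := X.basicOpen (a * b'), hW := hW₀.basicOpen b, hU := hU₀.basicOpen _,
            le := ?_, surj := ?_, s := fun i => res F (X.basicOpen_le (a * b')) (s i),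
            hs := span_basicOpen F hF hU₀ s a (a * b') (dvd_mul_right a b') hs }, ?_⟩
  · rw [hab, hb']
    exact inf_le_right.trans inf_le_right
  · intro y hy
    obtain ⟨x', hx', rfl⟩ := hb1 hy
    refine ⟨x', ?_, rfl⟩
    rw [hab, hb']
    exact ⟨hx', X.basicOpen_le a hx', hy⟩
  · change x ∈ X.basicOpen (a * b')
    rw [hab, hb']
    exact ⟨hxa, hxU₀, hb2⟩

variable {f : X ⟶ S} {F : X.Modules} {p : ℕ} (c : Chart f F p)

theorem geometricallyIrreducible [GeometricallyIrreducible f] :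
    GeometricallyIrreducible (Spec.map (f.appLE c.W c.U c.le)) := by
  have hcomm : c.hU.fromSpec ≫ f = Spec.map (f.appLE c.W c.U c.le) ≫ c.hW.fromSpec :=
    (IsAffineOpen.SpecMap_appLE_fromSpec f c.hW c.hU c.le).symm
  let i : Spec Γ(X, c.U) ⟶ pullback f c.hW.fromSpec :=
    pullback.lift c.hU.fromSpec (Spec.map (f.appLE c.W c.U c.le)) hcomm
  have h1 : i ≫ pullback.fst f c.hW.fromSpec = c.hU.fromSpec := pullback.lift_fst _ _ _
  have h2 : i ≫ pullback.snd f c.hW.fromSpec = Spec.map (f.appLE c.W c.U c.le) := pullback.lift_snd _ _ _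
  have hi : IsOpenImmersion i := by
    have : IsOpenImmersion (i ≫ pullback.fst f c.hW.fromSpec) := by rw [h1]; infer_instance
    exact IsOpenImmersion.of_comp i (pullback.fst f c.hW.fromSpec)
  have hsurj : Surjective (i ≫ pullback.snd f c.hW.fromSpec) := by
    rw [h2]
    refine ⟨fun y => ?_⟩
    have hy : c.hW.fromSpec.base y ∈ c.W := by
      have : c.hW.fromSpec.base y ∈ Set.range c.hW.fromSpec.base := ⟨y, rfl⟩
      rw [c.hW.range_fromSpec] at this
      exact this
    obtain ⟨x, hx, hxy⟩ := c.surj _ hy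
    have hx' : x ∈ Set.range c.hU.fromSpec.base := by
      rw [c.hU.range_fromSpec]
      exact hx
    obtain ⟨z, rfl⟩ := hx'
    refine ⟨z, c.hW.fromSpec.isOpenEmbedding.injective ?_⟩
    refine Eq.trans ?_ hxy
    change (Spec.map (f.appLE c.W c.U c.le) ≫ c.hW.fromSpec).base z = (c.hU.fromSpec ≫ f).base z
    rw [hcomm]
  rw [← h2]
  infer_instance

theorem isProj [Smooth f] [GeometricallyIrreducible f] : IsProj (f.appLE c.W c.U c.le).hom := by
  letI := (f.appLE c.W c.U c.le).hom.toAlgebra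
  have : Algebra.Smooth Γ(S, c.W) Γ(X, c.U) := by
    have := f.smooth_appLE c.hW c.hU c.le
    exact this
  exact Groth.Agent.Flat2B.ProjGeomInt.projective_of_smooth Γ(S, c.W) Γ(X, c.U)
    (geometricallyIrreducible c)

theorem isGI [Smooth f] [GeometricallyIrreducible f] : IsGI (f.appLE c.W c.U c.le).hom := by
  letI := (f.appLE c.W c.U c.le).hom.toAlgebra
  have : Algebra.Smooth Γ(S, c.W) Γ(X, c.U) := by
    have := f.smooth_appLE c.hW c.hU c.le
    exact this
  exact Groth.Agent.Flat2B.ProjGeomInt.geomIntegralFibres_of_smooth Γ(S, c.W) Γ(X, c.U)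
    (geometricallyIrreducible c)

end K256.ChartDef
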