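import Groth.Agent.Picfga.IdealGlue
import Mathlib.AlgebraicGeometry.Morphisms.Immersion
import Mathlib.AlgebraicGeometry.Morphisms.FinitePresentation

/-!
# Gluing closed immersions from their functor of points

Variant of `Groth.Agent.Flat2F.ImmGlue`, for closed immersions which need not be of finite presentation.
-/

set_option autoImplicit false
universe u
open CategoryTheory CategoryTheory.Limits AlgebraicGeometry TopologicalSpace

namespace K256.ClosedGlue

open Groth.Agent.Picfga.IdealGlue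

/-- The closed immersion `Spec (A / I) ⟶ Spec A`. -/
noncomputable abbrev zι {A : CommRingCat.{u}} (I : Ideal A) :
    Spec (CommRingCat.of (A ⧸ I)) ⟶ Spec A := Spec.map (CommRingCat.ofHom (Ideal.Quotient.mk I))

instance {A : CommRingCat.{u}} (I : Ideal A) : IsClosedImmersion (zι I) :=
  IsClosedImmersion.spec_of_surjective _ Ideal.Quotient.mk_surjective

theorem lfp_zι {A : CommRingCat.{u}} (I : Ideal A) (hI : I.FG) :
    LocallyOfFinitePresentation (zι I) := by
  rw [HasRingHomProperty.Spec_iff (P := @LocallyOfFinitePresentation)]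
  exact RingHom.FinitePresentation.of_surjective _ Ideal.Quotient.mk_surjective (by
    simpa only [CommRingCat.hom_ofHom, Ideal.mk_ker] using hI)

variable {S : Scheme.{u}} (P : ∀ ⦃T : Scheme.{u}⦄, (T ⟶ S) → Prop)

/-- `P` is represented by the ideal `I` on the affine chart `j`. -/
structure IsChart {A : CommRingCat.{u}} (j : Spec A ⟶ S) (I : Ideal A) : Prop where
  isOpenImmersion : IsOpenImmersion j
  iff : ∀ (T : Scheme.{u}) (t : T ⟶ Spec A), P (t ≫ j) ↔ ∃ l, l ≫ zι I = t

variable {P}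

theorem ker_le_of_chart (hpre : ∀ ⦃T T' : Scheme.{u}⦄ (h : T' ⟶ T) (g : T ⟶ S), P g → P (h ≫ g))
    {A A' : CommRingCat.{u}} (c : Spec A ⟶ S) (c' : Spec A' ⟶ S)
    {I : Ideal A} {I' : Ideal A'} (h : ∀ (T : Scheme.{u}) (t : T ⟶ Spec A), P (t ≫ c) ↔ ∃ l, l ≫ zι I = t)
    (h' : ∀ (T : Scheme.{u}) (t : T ⟶ Spec A'), P (t ≫ c') ↔ ∃ l, l ≫ zι I' = t)
    {R : Scheme.{u}} (a : R ⟶ Spec A) (a' : R ⟶ Spec A') (ha : a ≫ c = a' ≫ c') :
    (zι I').ker.comap a' ≤ (zι I).ker.comap a := by
  rw [← Scheme.IdealSheafData.ker_fst_of_isClosedImmersion,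
    ← Scheme.IdealSheafData.ker_fst_of_isClosedImmersion]
  have h1 : P (pullback.fst a (zι I) ≫ a ≫ c) := by
    rw [← Category.assoc, pullback.condition, Category.assoc]
    exact hpre _ _ ((h _ _).mpr ⟨𝟙 _, Category.id_comp _⟩)
  have h2 : P ((pullback.fst a (zι I) ≫ a') ≫ c') := by
    rw [ha] at h1
    rwa [Category.assoc]
  obtain ⟨l, hl⟩ := (h' _ _).mp h2
  have h3 : pullback.lift (pullback.fst a (zι I)) l hl.symm ≫ pullback.fst a' (zι I') =
    pullback.fst a (zι I) := pullback.lift_fst _ _ _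
  rw [← h3]
  exact Scheme.Hom.le_ker_comp _ _

variable (P)

theorem exists_closedImmersion
    (hpre : ∀ ⦃T T' : Scheme.{u}⦄ (h : T' ⟶ T) (g : T ⟶ S), P g → P (h ≫ g))
    (hloc : ∀ ⦃T : Scheme.{u}⦄ (g : T ⟶ S), (∀ t : T, ∃ (T' : Scheme.{u}) (h : T' ⟶ T)
      (_ : IsOpenImmersion h), t ∈ Set.range h.base ∧ P (h ≫ g)) → P g)
    (hgood : ∀ y : S, ∃ (A : CommRingCat.{u}) (j : Spec A ⟶ S) (I : Ideal A),
      IsChart P j I ∧ y ∈ Set.range j.base) :
    ∃ (Z : Scheme.{u}) (j : Z ⟶ S), IsClosedImmersion j ∧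
      ∀ (T : Scheme.{u}) (g : T ⟶ S), (∃ g' : T ⟶ Z, g' ≫ j = g) ↔ P g := by
  choose A c I hI hcov' using hgood
  have hco : ∀ w, IsOpenImmersion (c w) := fun w => (hI w).1
  have hP' : ∀ (w : S) (T : Scheme.{u}) (t : T ⟶ Spec (A w)),
      P (t ≫ c w) ↔ ∃ l, l ≫ zι (I w) = t := fun w => (hI w).2
  have hcov : ∀ y : S, ∃ (w : S) (u : Spec (A w)), (c w).base u = y := fun y => ⟨y, hcov' y⟩
  obtain ⟨J, hJ, -⟩ := exists_unique_glue_family (Y := S) (fun w : S => Spec (A w)) c hcov
    (fun w => (zι (I w)).ker) (fun w w' => le_antisymm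
      (ker_le_of_chart hpre (c w') (c w) (hP' w') (hP' w) _ _ pullback.condition.symm)
      (ker_le_of_chart hpre (c w) (c w') (hP' w) (hP' w') _ _ pullback.condition))
  have hker : ∀ w, (zι (I w)).ker = (pullback.fst (c w) J.subschemeι).ker := fun w => (hJ w).symm
  let e : ∀ w, pullback (c w) J.subschemeι ⟶ Spec (CommRingCat.of (A w ⧸ I w)) := fun w =>
    IsClosedImmersion.lift (zι (I w)) (pullback.fst (c w) J.subschemeι) (hker w).le
  have he : ∀ w, e w ≫ zι (I w) = pullback.fst (c w) J.subschemeι := fun w =>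
    IsClosedImmersion.lift_fac _ _ _
  refine ⟨J.subscheme, J.subschemeι, inferInstance, fun T g => ⟨?_, fun hg => ?_⟩⟩
  · rintro ⟨g', rfl⟩
    refine hloc _ fun t => ?_
    obtain ⟨w, u, hu⟩ := hcov ((g' ≫ J.subschemeι).base t)
    obtain ⟨t', ht'1, ht'2⟩ := Scheme.Pullback.exists_preimage_pullback
      (f := g' ≫ J.subschemeι) (g := c w) t u hu.symm
    refine ⟨_, pullback.fst (g' ≫ J.subschemeι) (c w), inferInstance, ⟨t', ht'1⟩, ?_⟩
    have h1 : pullback.fst (g' ≫ J.subschemeι) (c w) ≫ g' ≫ J.subschemeι =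
      pullback.snd (g' ≫ J.subschemeι) (c w) ≫ c w := pullback.condition
    rw [h1, hP' w]
    refine ⟨pullback.lift (pullback.snd (g' ≫ J.subschemeι) (c w))
      (pullback.fst (g' ≫ J.subschemeι) (c w) ≫ g') (by rw [Category.assoc, h1]) ≫ e w, ?_⟩
    rw [Category.assoc, he, pullback.lift_fst]
  · have h1 : J.comap g = ⊥ := by
      refine ext_of_forall_exists fun t => ?_
      obtain ⟨w, u, hu⟩ := hcov (g.base t)
      obtain ⟨t', ht'1, ht'2⟩ := Scheme.Pullback.exists_preimage_pullback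
        (f := g) (g := c w) t u hu.symm
      refine ⟨_, pullback.fst g (c w), inferInstance, t', ht'1, ?_⟩
      have h2 : P (pullback.snd g (c w) ≫ c w) := by
        rw [← pullback.condition]
        exact hpre _ _ hg
      obtain ⟨l, hl⟩ := (hP' w _ _).mp h2
      rw [← Scheme.IdealSheafData.comap_comp, pullback.condition,
        Scheme.IdealSheafData.comap_comp, hJ w, Scheme.IdealSheafData.comap_bot, ← hl,
        Scheme.IdealSheafData.comap_comp]
      have h3 : (zι (I w)).ker.comap (zι (I w)) = ⊥ := by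
        rw [← le_bot_iff, ← Scheme.IdealSheafData.le_map_iff_comap_le,
          Scheme.IdealSheafData.map_bot]
      rw [h3, Scheme.IdealSheafData.comap_bot]
    have h4 : J ≤ g.ker := by
      rw [← Scheme.IdealSheafData.map_bot, Scheme.IdealSheafData.le_map_iff_comap_le, h1]
    exact ⟨IsClosedImmersion.lift J.subschemeι g (by
      rw [Scheme.IdealSheafData.ker_subschemeι]; exact h4), IsClosedImmersion.lift_fac _ _ _⟩

variable {P}

/-- The closed immersion is locally of finite presentation if the ideals of the charts are finitely generated. -/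
theorem locallyOfFinitePresentation {Z : Scheme.{u}} (j : Z ⟶ S) [Mono j]
    (hj : ∀ (T : Scheme.{u}) (g : T ⟶ S), (∃ g' : T ⟶ Z, g' ≫ j = g) ↔ P g)
    (hgood : ∀ y : S, ∃ (A : CommRingCat.{u}) (j : Spec A ⟶ S) (I : Ideal A),
      IsChart P j I ∧ y ∈ Set.range j.base ∧ I.FG) : LocallyOfFinitePresentation j := by
  choose A c I hI hcov' hfg using hgood
  have hco : ∀ w, IsOpenImmersion (c w) := fun w => (hI w).1
  let 𝒰 : Scheme.OpenCover.{u} S :=
    { I₀ := S, X := fun w => Spec (A w), f := c,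
      mem₀ := by rw [Scheme.presieve₀_mem_precoverage_iff]; exact ⟨fun y => ⟨y, hcov' y⟩, inferInstance⟩ }
  refine IsZariskiLocalAtTarget.of_openCover (P := @LocallyOfFinitePresentation) 𝒰 fun w => ?_
  change LocallyOfFinitePresentation (pullback.snd j (c w))
  -- `pullback.snd j (c w)` is `zι (I w)` up to isomorphism
  have h1 : P (pullback.snd j (c w) ≫ c w) := by
    rw [← pullback.condition]
    exact (hj _ _).1 ⟨_, rfl⟩
  obtain ⟨l, hl⟩ := ((hI w).2 _ _).1 h1
  have h2 : P (zι (I w) ≫ c w) := ((hI w).2 _ _).2 ⟨𝟙 _, Category.id_comp _⟩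
  obtain ⟨l', hl'⟩ := (hj _ _).2 h2
  let m : Spec (CommRingCat.of (A w ⧸ I w)) ⟶ pullback j (c w) := pullback.lift l' (zι (I w)) hl'
  have hm : m ≫ pullback.snd j (c w) = zι (I w) := pullback.lift_snd _ _ _
  have : IsIso l := by
    refine ⟨m, ?_, ?_⟩
    · rw [← cancel_mono (pullback.snd j (c w)), Category.assoc, hm, hl, Category.id_comp]
    · rw [← cancel_mono (zι (I w)), Category.assoc, hl, hm, Category.id_comp]
  have := lfp_zι (I w) (hfg w)
  rw [← hl]
  infer_instance

end K256.ClosedGlue
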