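import Groth.Prelude.Def_FlatFun
import Groth.Agent.CycB.RelDim2
import Groth.Agent.Ega4fib.H174.EquidimAff
import Mathlib.AlgebraicGeometry.Morphisms.QuasiFinite
import Mathlib.RingTheory.Unramified.LocalStructure
import Mathlib.AlgebraicGeometry.Morphisms.Etale

/-!
# `FlatFun.DimFibresLT` in terms of `rtd`; `rtd` and étale morphisms
-/

set_option autoImplicit false
universe u
open CategoryTheory CategoryTheory.Limits AlgebraicGeometry Opposite
open Groth.Agent.CycB.RelDim

namespace K256.DimLT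

variable {X T : Scheme.{u}}

theorem dimFibresLT_iff (n : ℕ) (q : X ⟶ T) (Z : Set X) :
    FlatFun.DimFibresLT n q Z ↔ ∀ x ∈ Z, rtd q x < n := Iff.rfl

theorem locallyQuasiFinite_of_etale {X Y : Scheme.{u}} (f : X ⟶ Y) [Etale f] :
    LocallyQuasiFinite f where
  quasiFinite_appLE {U} hU {V} hV e := by
    have h := HasRingHomProperty.appLE @AlgebraicGeometry.Etale f ‹_› ⟨U, hU⟩ ⟨V, hV⟩ e
    algebraize [(f.appLE U V e).hom]
    change Algebra.QuasiFinite Γ(Y, U) Γ(X, V)
    infer_instance

theorem rtd_eq_zero_of_etale {X Y : Scheme.{u}} (f : X ⟶ Y) [Etale f] (x : X) : rtd f x = 0 := by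
  have := locallyQuasiFinite_of_etale f
  exact Groth.Agent.Ega4fib.H174.EquidimAff.rtd_eq_zero_of_locallyQuasiFinite f x

/-- `rtd` does not change when one composes with an étale morphism on the source. -/
theorem rtd_etale_comp {X Y Z : Scheme.{u}} (k : X ⟶ Y) [Etale k] (q : Y ⟶ Z) (x : X) :
    rtd (k ≫ q) x = rtd q (k x) := by
  rw [rtd_comp, rtd_eq_zero_of_etale k x, add_zero]

end K256.DimLT
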