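import Groth.Agent.FlatMor.K256.GenSheaf
import Groth.Agent.FlatMor.K256.ModBC

/-!
# The fpqc sheaf condition for `genPSp` of a condition on `X_T` that can be checked pointwise on `X_T`
-/

set_option autoImplicit false
universe u
open CategoryTheory CategoryTheory.Limits AlgebraicGeometry Opposite

namespace K256.GenSheafX

variable {X S : Scheme.{u}} (f : X ⟶ S)

/-- Let `P` be a condition on schemes over `S` stable under base change, which holds for `T` as soon
as every point of `X_T` is the image of a point of some `X_{T'}` with `T' ⟶ T` flat and `P T'`.  Then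
`genPSp S P` is an fpqc sheaf. -/
theorem isSheaf_genPSp (P : Over S → Prop)
    (hst : ∀ ⦃T T₀ : Over S⦄ (_ : T ⟶ T₀), P T₀ → P T)
    (hloc : ∀ (T : Over S), (∀ x : PicF.XT f T, ∃ (T' : Over S) (g : T' ⟶ T) (x' : PicF.XT f T'),
      Flat g.left ∧ Flat (PicF.XTmap f g) ∧ (PicF.XTmap f g).base x' = x ∧ P T') → P T) :
    Presheaf.IsSheaf (QuotSh.J Scheme.fpqcPrecoverage S) (FlatFun.genPSp S P) :=
  GenSheaf.isSheaf_genPSp_of_pointwise P hst fun T h => hloc T fun x => ModBC.cover_XT f T P h x

end K256.GenSheafX
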