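import Groth.Agent.FlatMor.K256.RtdBC
import Groth.Agent.FlatMor.K256.DimLT
import Groth.Agent.FlatMor.K256.GenSheafX

/-!
# The functors `F_n` : stability under base change and the fpqc sheaf condition
-/

set_option autoImplicit false
universe u
open CategoryTheory CategoryTheory.Limits AlgebraicGeometry Opposite
open Groth.Agent.CycB.RelDim

namespace K256.DimFun

variable {X S : Scheme.{u}} (f : X ⟶ S)

theorem locallyOfFiniteType_XTproj [LocallyOfFiniteType f] (T : Over S) :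
    LocallyOfFiniteType (PicF.XTproj f T) := by
  unfold PicF.XTproj
  infer_instance

/-- `F` is flat in dimensions `≥ n` over `T`. -/
abbrev FnP (F : X.Modules) (n : ℕ) (T : Over S) : Prop :=
  FlatFun.DimFibresLT n (PicF.XTproj f T) {x | ¬ FlatMod.IsFlatOverAt (PicF.XTproj f T) (FGA.ET f F T) x}

theorem fnP_iff (F : X.Modules) (n : ℕ) (T : Over S) : FnP f F n T ↔
    ∀ x : PicF.XT f T, ¬ FlatMod.IsFlatOverAt (PicF.XTproj f T) (FGA.ET f F T) x →
      rtd (PicF.XTproj f T) x < n := Iff.rfl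

theorem fnP_stable [LocallyOfFiniteType f] (F : X.Modules) (n : ℕ) {T T₀ : Over S} (g : T ⟶ T₀)
    (h : FnP f F n T₀) : FnP f F n T := by
  rw [fnP_iff] at h ⊢
  intro x hx
  have := locallyOfFiniteType_XTproj f T₀
  refine (RtdBC.rtd_le (Groth.Agent.Picfga.HilbPull.isPullback_XTmap f g) x).trans_lt (h _ ?_)
  exact fun h1 => hx (ModBC.flatOverAt_stable f g F x h1)

theorem fnP_descent (F : X.Modules) (n : ℕ) (T : Over S)
    (h : ∀ t : T.left, ∃ (Y : Scheme.{u}) (g : Y ⟶ T.left) (y : Y), Flat g ∧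
      g.base y = t ∧ FnP f F n (Over.mk (g ≫ T.hom))) : FnP f F n T := by
  rw [fnP_iff]
  intro x hx
  obtain ⟨Y, g₀, y, h1, h2, h3⟩ := h ((PicF.XTproj f T).base x)
  let g : Over.mk (g₀ ≫ T.hom) ⟶ T := Over.homMk g₀ rfl
  have hg : Flat g.left := h1
  obtain ⟨x', hx1, -, hx3⟩ := RtdBC.exists_over
    (Groth.Agent.Picfga.HilbPull.isPullback_XTmap f g) x y h2.symm
  rw [← hx3]
  refine (fnP_iff f F n _).1 h3 x' fun h4 => hx ?_
  rw [← hx1]
  exact ModBC.flatOverAt_descent f g F x' h4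

theorem isSheaf [LocallyOfFiniteType f] (F : X.Modules) (n : ℕ) :
    Presheaf.IsSheaf (QuotSh.J Scheme.fpqcPrecoverage S) (FlatFun.genPSp S (FnP f F n)) :=
  GenSheaf.isSheaf_genPSp_of_pointwise _ (fun _ _ g h => fnP_stable f F n g h)
    (fun T h => fnP_descent f F n T h)

end K256.DimFun
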