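import Groth.Agent.FlatMor.K256.LimPres
import Groth.Agent.Smoothlim.FlatColimMod
import Groth.Agent.Flat2G.FlatLocus
import Groth.Agent.Flat2C.FlatSec
import Groth.Agent.Fdesc.PullbackSec
import Groth.Agent.FlatA.FlatDescent
import Groth.Agent.FormalA.PullbackQC
import Mathlib.CategoryTheory.Presentable.Directed
import Mathlib.CategoryTheory.Filtered.Final

/-!
# Flatness at a point of the limit comes from a stage
-/

set_option autoImplicit false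
set_option linter.style.haveILetI false
universe u
open CategoryTheory CategoryTheory.Limits AlgebraicGeometry Opposite TensorProduct

namespace K256.FlatStage

/-- **Flatness of finitely presented modules descends along filtered colimits** (filtered category
version of `Smoothlim.FlatColimMod.exists_flat_mod`). -/
theorem exists_flat_stage {J : Type u} [SmallCategory J] [IsFiltered J] (F : J ⥤ CommRingCat.{u})
    (c : Cocone F) (hc : IsColimit c) (j₀ : J) (C M : Type u) [CommRing C] [Algebra (F.obj j₀) C]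
    [Algebra.FinitePresentation (F.obj j₀) C] [AddCommGroup M] [Module (F.obj j₀) M] [Module C M]
    [IsScalarTower (F.obj j₀) C M] [Module.FinitePresentation C M]
    (H : letI : Algebra (F.obj j₀) c.pt := (c.ι.app j₀).hom.toAlgebra; Module.Flat c.pt (c.pt ⊗[F.obj j₀] M)) :
    ∃ (j : J) (φ : j₀ ⟶ j), letI := (F.map φ).hom.toAlgebra
      Module.Flat (F.obj j) (F.obj j ⊗[F.obj j₀] M) := by
  obtain ⟨α, _, _, _, G, hG⟩ := IsFiltered.exists_directed (Under j₀)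
  let F' : α ⥤ CommRingCat.{u} := G ⋙ Under.forget j₀ ⋙ F
  let c' : Cocone F' := (c.whisker (Under.forget j₀)).whisker G
  have hc' : IsColimit c' :=
    (Functor.Final.isColimitWhiskerEquiv G (c.whisker (Under.forget j₀))).symm
      ((Functor.Final.isColimitWhiskerEquiv (Under.forget j₀) c).symm hc)
  letI i1 : ∀ i, Algebra (F.obj j₀) (F'.obj i) := fun i => (F.map (G.obj i).hom).hom.toAlgebra
  letI i2 : Algebra (F.obj j₀) c'.pt := (c.ι.app j₀).hom.toAlgebra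
  have H' : Module.Flat c'.pt (c'.pt ⊗[F.obj j₀] M) := H
  obtain ⟨i, hi⟩ := Groth.Agent.Smoothlim.FlatColimMod.exists_flat_mod F' c' hc' (F.obj j₀)
    (fun i j h x => by
      have h1 : F.map (G.obj i).hom ≫ F.map (G.map (homOfLE h)).right = F.map (G.obj j).hom := by
        rw [← F.map_comp, Under.w]
      exact ConcreteCategory.congr_hom h1 x)
    (fun i x => by
      have h1 : F.map (G.obj i).hom ≫ c.ι.app (G.obj i).right = c.ι.app j₀ := c.w _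
      exact ConcreteCategory.congr_hom h1 x) C M
  exact ⟨(G.obj i).right, (G.obj i).hom, hi⟩

section Pull

open Groth.Agent.Fdesc.PullbackSec Groth.Agent.Flat2C.FlatSec

variable {X₀ X S₀ S' : Scheme.{u}} {f₀ : X₀ ⟶ S₀} {f : X ⟶ S'} {g : X ⟶ X₀} {h : S' ⟶ S₀}
  (H : IsPullback g f f₀ h) {V : X₀.Opens} (hV : IsAffineOpen V)

include H hV in
/-- Flatness of a base change over affine schemes, on sections over an affine open. -/
theorem flat_pullback_iff [IsAffine S₀] [IsAffine S'] (M : X₀.Modules) (hM : Coh.IsQCoh M)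
    (hV' : IsAffineOpen (g ⁻¹ᵁ V)) (e1 : V ≤ f₀ ⁻¹ᵁ ⊤) :
    (∀ x ∈ g ⁻¹ᵁ V, FlatMod.IsFlatOverAt f ((Scheme.Modules.pullback g).obj M) x) ↔
      letI : Module Γ(S₀, ⊤) Γ(M, V) := moduleOver f₀ M e1
      letI : Algebra Γ(S₀, ⊤) Γ(S', ⊤) := (h.appTop).hom.toAlgebra
      Module.Flat Γ(S', ⊤) (Γ(S', ⊤) ⊗[Γ(S₀, ⊤)] Γ(M, V)) := by
  have e2 : g ⁻¹ᵁ V ≤ f ⁻¹ᵁ ⊤ := le_top
  have e3 : (⊤ : S'.Opens) ≤ h ⁻¹ᵁ ⊤ := le_top
  have h3 : h.appLE ⊤ ⊤ e3 = h.appTop := Scheme.Hom.appLE_eq_app _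
  have hP : IsPushout (f₀.appLE ⊤ V e1) h.appTop (g.appLE V (g ⁻¹ᵁ V) le_rfl)
      (f.appLE ⊤ (g ⁻¹ᵁ V) e2) := by
    rw [← h3]
    exact (isIso_pushoutSection_iff H e3 e1 (UY := g ⁻¹ᵁ V) (by simp)).mp
      (isIso_pushoutSection_of_isAffineOpen H e3 e1 (by simp) (isAffineOpen_top _) (isAffineOpen_top _) hV)
  have hM' : Coh.IsQCoh ((Scheme.Modules.pullback g).obj M) :=
    Groth.Agent.FormalA.PullbackQC.isQCoh_pullback _ _ hM
  let i1 : Algebra Γ(S₀, ⊤) Γ(S', ⊤) := (h.appTop).hom.toAlgebra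
  let i2 : Algebra Γ(S₀, ⊤) Γ(X₀, V) := (f₀.appLE ⊤ V e1).hom.toAlgebra
  let i3 : Algebra Γ(S', ⊤) Γ(X, g ⁻¹ᵁ V) := (f.appLE ⊤ _ e2).hom.toAlgebra
  let i4 : Algebra Γ(X₀, V) Γ(X, g ⁻¹ᵁ V) := secAlg g le_rfl
  let i5 : Algebra Γ(S₀, ⊤) Γ(X, g ⁻¹ᵁ V) := (f₀.appLE ⊤ V e1 ≫ g.appLE V (g ⁻¹ᵁ V) le_rfl).hom.toAlgebra
  have t1 : IsScalarTower Γ(S₀, ⊤) Γ(S', ⊤) Γ(X, g ⁻¹ᵁ V) :=
    IsScalarTower.of_algebraMap_eq fun r => ConcreteCategory.congr_hom hP.w r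
  have t2 : IsScalarTower Γ(S₀, ⊤) Γ(X₀, V) Γ(X, g ⁻¹ᵁ V) := IsScalarTower.of_algebraMap_eq fun r => rfl
  have hPA : Algebra.IsPushout Γ(S₀, ⊤) Γ(S', ⊤) Γ(X₀, V) Γ(X, g ⁻¹ᵁ V) :=
    CommRingCat.isPushout_iff_isPushout.mp hP.flip
  let m1 : Module Γ(S₀, ⊤) Γ(M, V) := moduleOver f₀ M e1
  let m2 : Module Γ(X₀, V) Γ((Scheme.Modules.pullback g).obj M, g ⁻¹ᵁ V) := secModule g le_rfl _
  let m3 : Module Γ(S', ⊤) Γ((Scheme.Modules.pullback g).obj M, g ⁻¹ᵁ V) := moduleOver f _ e2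
  let m4 : Module Γ(S₀, ⊤) Γ((Scheme.Modules.pullback g).obj M, g ⁻¹ᵁ V) :=
    Module.compHom _ (f₀.appLE ⊤ V e1 ≫ g.appLE V (g ⁻¹ᵁ V) le_rfl).hom
  have s1 : IsScalarTower Γ(S₀, ⊤) Γ(X₀, V) Γ(M, V) := IsScalarTower.of_algebraMap_smul fun _ _ => rfl
  have s2 : IsScalarTower Γ(S', ⊤) Γ(X, g ⁻¹ᵁ V) Γ((Scheme.Modules.pullback g).obj M, g ⁻¹ᵁ V) :=
    IsScalarTower.of_algebraMap_smul fun _ _ => rfl
  have s3 : IsScalarTower Γ(X₀, V) Γ(X, g ⁻¹ᵁ V) Γ((Scheme.Modules.pullback g).obj M, g ⁻¹ᵁ V) :=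
    isScalarTower_sec g le_rfl _
  have s4 : IsScalarTower Γ(S₀, ⊤) Γ(S', ⊤) Γ((Scheme.Modules.pullback g).obj M, g ⁻¹ᵁ V) :=
    IsScalarTower.of_algebraMap_smul fun r x => by
      have h1 : (f.appLE ⊤ (g ⁻¹ᵁ V) e2) (h.appTop r) =
        (g.appLE V (g ⁻¹ᵁ V) le_rfl) ((f₀.appLE ⊤ V e1) r) := (ConcreteCategory.congr_hom hP.w r).symm
      change (f.appLE ⊤ (g ⁻¹ᵁ V) e2) (h.appTop r) • x =
        (g.appLE V (g ⁻¹ᵁ V) le_rfl) ((f₀.appLE ⊤ V e1) r) • x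
      rw [h1]
  have s5 : IsScalarTower Γ(S₀, ⊤) Γ(X₀, V) Γ((Scheme.Modules.pullback g).obj M, g ⁻¹ᵁ V) :=
    IsScalarTower.of_algebraMap_smul fun r x => rfl
  have hb := isBaseChange_pullSec g (le_rfl : g ⁻¹ᵁ V ≤ g ⁻¹ᵁ V) hV hV' M hM hM'
  have hb' : IsBaseChange Γ(S', ⊤) ((pullSec g (le_rfl : g ⁻¹ᵁ V ≤ g ⁻¹ᵁ V) M).restrictScalars Γ(S₀, ⊤)) :=
    Groth.Agent.FlatA.FlatDescent.isBaseChange_restrictScalars _ hb
  rw [← flat_sections_iff f _ hV' (isAffineOpen_top _) e2 hM']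
  constructor
  · intro h
    have h' : Module.Flat Γ(S', ⊤) Γ((Scheme.Modules.pullback g).obj M, g ⁻¹ᵁ V) := h
    exact Module.Flat.of_linearEquiv hb'.equiv
  · intro h
    have h' : Module.Flat Γ(S', ⊤) (Γ(S', ⊤) ⊗[Γ(S₀, ⊤)] Γ(M, V)) := h
    exact Module.Flat.of_linearEquiv hb'.equiv.symm

end Pull

section Limit

open Groth.Agent.Flat2C.FlatSec Groth.Agent.Picfga.HilbPull K256.LimPres

variable {X S : Scheme.{u}} (f : X ⟶ S) {I : Type u} [SmallCategory I] [IsCofiltered I]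

/-- Flatness of `F_T` at a point of `X_T`, `T = lim T_i`, comes from a stage. -/
theorem exists_stage_flatAt [LocallyOfFinitePresentation f] (F : X.Modules) (hq : Coh.IsQCoh F)
    (hF : CohB1.IsFP F) {D : I ⥤ Over S} (c : Cone D) (hc : IsLimit ((Over.forget S).mapCone c))
    (hD : ∀ i, IsAffine (D.obj i).left) (hT : IsAffine c.pt.left) (x : PicF.XT f c.pt)
    (hx : FlatMod.IsFlatOverAt (PicF.XTproj f c.pt) (FGA.ET f F c.pt) x) :
    ∃ i, FlatMod.IsFlatOverAt (PicF.XTproj f (D.obj i)) (FGA.ET f F (D.obj i))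
      ((PicF.XTmap f (c.π.app i)).base x) := by
  obtain ⟨hcX⟩ := isLimit_XTcone f c hc
  have haff : ∀ {i j : I} (a : i ⟶ j), IsAffineHom ((XTD f D).map a) :=
    fun {i j} a => isAffineHom_XTD f D hD i j a
  have hlfp : ∀ T : Over S, LocallyOfFinitePresentation (PicF.XTproj f T) := by
    intro T
    unfold PicF.XTproj
    infer_instance
  have hqT : ∀ T : Over S, Coh.IsQCoh (FGA.ET f F T) := fun T =>
    Groth.Agent.FormalA.PullbackQC.isQCoh_pullback _ _ hq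
  have hfT : ∀ T : Over S, CohB1.IsFP (FGA.ET f F T) := fun T =>
    Groth.Agent.FormalA.PullbackQC.isFP_pullback _ _ hF
  have := hlfp c.pt
  let W : (PicF.XT f c.pt).Opens :=
    ⟨_, Groth.Agent.Flat2G.FlatLocus.isOpen_flatLocus (PicF.XTproj f c.pt) (FGA.ET f F c.pt)
      (hqT _) (hfT _)⟩
  obtain ⟨i, V, hV, hxV, hVW⟩ : ∃ (i : I) (V : (PicF.XT f (D.obj i)).Opens), IsAffineOpen V ∧
      (PicF.XTmap f (c.π.app i)) x ∈ V ∧ PicF.XTmap f (c.π.app i) ⁻¹ᵁ V ≤ W := by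
    obtain ⟨_, ⟨i, V, hV, rfl⟩, hxV, hVW⟩ := TopologicalSpace.Opens.isBasis_iff_nbhd.1
      (isBasis_preimage_isAffineOpen (XTD f D) (XTcone f c) hcX) (U := W) (x := x) hx
    exact ⟨i, V, hV, hxV, hVW⟩
  have hDi := hD i
  -- the rings
  obtain ⟨hcol⟩ : Nonempty (IsColimit (Scheme.Γ.mapCocone ((Over.forget S).mapCone c).op)) := by
    have h1 : ∀ {i j : I} (a : i ⟶ j), IsAffineHom ((D ⋙ Over.forget S).map a) := fun {i j} a => by
      have h2 : IsAffine ((D ⋙ Over.forget S).obj i) := hD i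
      have h3 : IsAffine ((D ⋙ Over.forget S).obj j) := hD j
      infer_instance
    have h4 : ∀ i, CompactSpace ((D ⋙ Over.forget S).obj i) := fun i => by
      have h2 : IsAffine ((D ⋙ Over.forget S).obj i) := hD i
      infer_instance
    have h5 : ∀ i, QuasiSeparatedSpace ((D ⋙ Over.forget S).obj i) := fun i => by
      have h2 : IsAffine ((D ⋙ Over.forget S).obj i) := hD i
      infer_instance
    exact nonempty_isColimit_Γ_mapCocone (D ⋙ Over.forget S) _ hc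
  have e1 : V ≤ PicF.XTproj f (D.obj i) ⁻¹ᵁ ⊤ := le_top
  let Fi : (PicF.XT f (D.obj i)).Modules := FGA.ET f F (D.obj i)
  have hlfpi := hlfp (D.obj i)
  let i1 : Algebra Γ((D.obj i).left, ⊤) Γ(PicF.XT f (D.obj i), V) := algebraOver (PicF.XTproj f (D.obj i)) e1
  let i2 : Module Γ((D.obj i).left, ⊤) Γ(Fi, V) := moduleOver (PicF.XTproj f (D.obj i)) Fi e1
  have i3 : IsScalarTower Γ((D.obj i).left, ⊤) Γ(PicF.XT f (D.obj i), V) Γ(Fi, V) :=
    isScalarTower_over (PicF.XTproj f (D.obj i)) Fi e1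
  have i4 : Algebra.FinitePresentation Γ((D.obj i).left, ⊤) Γ(PicF.XT f (D.obj i), V) :=
    LocallyOfFinitePresentation.finitePresentation_appLE _ (isAffineOpen_top _) hV e1
  have i5 : Module.FinitePresentation Γ(PicF.XT f (D.obj i), V) Γ(Fi, V) :=
    Groth.Agent.Desc.FPSections.finitePresentation_sections hV (hqT _) (hfT _)
  have hafft : ∀ {T T' : Over S} (g : T' ⟶ T) (_ : IsAffine T.left) (_ : IsAffine T'.left)
      (V : (PicF.XT f T).Opens) (_ : IsAffineOpen V), IsAffineOpen (PicF.XTmap f g ⁻¹ᵁ V) := by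
    intro T T' g h1 h2 V hV
    have := isAffineHom_XTmap f g
    exact hV.preimage _
  have hT' : ∀ i, IsAffine (((Functor.const I).obj c.pt).obj i).left := fun _ => hT
  have hflat := (flat_pullback_iff (isPullback_XTmap f (c.π.app i)) hV Fi (hqT _)
    (hafft (c.π.app i) (hD i) hT V hV) e1).1 (fun y hy =>
      Groth.Agent.Models2.FlatIso.isFlatOverAt_of_iso _ (FGA.ETiso f F (c.π.app i)).symm y (hVW hy))
  let i1' : Algebra (((D ⋙ Over.forget S).op ⋙ Scheme.Γ).obj (op i)) Γ(PicF.XT f (D.obj i), V) := i1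
  let i2' : Module (((D ⋙ Over.forget S).op ⋙ Scheme.Γ).obj (op i)) Γ(Fi, V) := i2
  have i3' : IsScalarTower (((D ⋙ Over.forget S).op ⋙ Scheme.Γ).obj (op i)) Γ(PicF.XT f (D.obj i), V)
    Γ(Fi, V) := i3
  have i4' : Algebra.FinitePresentation (((D ⋙ Over.forget S).op ⋙ Scheme.Γ).obj (op i))
    Γ(PicF.XT f (D.obj i), V) := i4
  obtain ⟨k, φ, hk⟩ := exists_flat_stage _ _ hcol (op i) Γ(PicF.XT f (D.obj i), V) Γ(Fi, V) hflat
  have hDk := hD k.unop
  refine ⟨k.unop, ?_⟩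
  have hall := (flat_pullback_iff (isPullback_XTmap f (D.map φ.unop)) hV Fi (hqT _)
    (hafft (D.map φ.unop) (hD i) (hD k.unop) V hV) e1).2 hk
  refine Groth.Agent.Models2.FlatIso.isFlatOverAt_of_iso _ (FGA.ETiso f F (D.map φ.unop)) _ (hall _ ?_)
  change (PicF.XTmap f (D.map φ.unop)) ((PicF.XTmap f (c.π.app k.unop)) x) ∈ V
  rw [← Scheme.Hom.comp_apply, ← K256.LimPres.XTmap_comp, c.w]
  exact hxV

end Limit

end K256.FlatStage
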