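import Groth.Agent.FlatMor.K256.DimClosed
import Groth.Agent.FlatMor.K256.DimFun
import Groth.Agent.FlatMor.K256.FlatStage

/-!
# The functors `F_n` are limit preserving
-/

set_option autoImplicit false
universe u
open CategoryTheory CategoryTheory.Limits AlgebraicGeometry Opposite TopologicalSpace
open Groth.Agent.CycB.RelDim Groth.Agent.Picfga.HilbPull

namespace K256.DimLim

open RtdBC DimClosed DimFun

/-- In the fibre through `x` of a morphism locally of finite type, a directed (downwards) family of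
closed subsets is eventually constant at the generizations of `x`. -/
theorem exists_stable {X T : Scheme.{u}} (q : X ⟶ T) [LocallyOfFiniteType q] (x : X) {I : Type*} [Nonempty I]
    (Y : I → Set X) (hY : ∀ i, IsClosed (Y i)) (hdir : ∀ i j, ∃ k, Y k ⊆ Y i ∧ Y k ⊆ Y j) :
    ∃ i, ∀ j, ∀ z : X, z ⤳ x → q z = q x → z ∈ Y i → z ∈ Y j := by
  let F := q.fiber (q x)
  have hft : LocallyOfFiniteType (q.fiberToSpecResidueField (q x)) :=
    MorphismProperty.pullback_snd _ _ inferInstance
  have hF : IsLocallyNoetherian F :=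
    LocallyOfFiniteType.isLocallyNoetherian (q.fiberToSpecResidueField (q x))
  obtain ⟨x', hx'⟩ := exists_fiber_pt q (q x) x rfl
  obtain ⟨_, ⟨N, hN, rfl⟩, hxN, -⟩ :=
    F.isBasis_affineOpens.exists_subset_of_mem_open (Set.mem_univ x') isOpen_univ
  have hN' : IsNoetherianRing Γ(F, N) := IsLocallyNoetherian.component_noetherian ⟨N, hN⟩
  have hns : NoetherianSpace N := noetherianSpace_of_isAffineOpen N hN
  have hcont : Continuous (fun z : N => q.fiberι (q x) z.1) :=
    (q.fiberι (q x)).continuous.comp continuous_subtype_val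
  let C (i : I) : Closeds N := ⟨(fun z : N => q.fiberι (q x) z.1) ⁻¹' (Y i), (hY i).preimage hcont⟩
  obtain ⟨_, ⟨i, rfl⟩, hmin⟩ := (wellFounded_lt (α := Closeds N)).has_min (Set.range C) (Set.range_nonempty C)
  refine ⟨i, fun j z hz hqz hzi => ?_⟩
  obtain ⟨k, hki, hkj⟩ := hdir i j
  have h1 : C k ≤ C i := fun w hw => hki hw
  have h2 : C k = C i := by
    by_contra hne
    exact hmin _ ⟨k, rfl⟩ (lt_of_le_of_ne h1 hne)
  obtain ⟨z', hz'⟩ := exists_fiber_pt q (q x) z hqz
  have h3 : z' ⤳ x' := (q.fiberι (q x)).isEmbedding.isInducing.specializes_iff.1 (by rw [hz', hx']; exact hz)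
  have h4 : z' ∈ N := h3.mem_open N.2 hxN
  have h5 : (⟨z', h4⟩ : N) ∈ C i := by
    change q.fiberι (q x) z' ∈ Y i
    rw [hz']
    exact hzi
  rw [← h2] at h5
  have h6 : q.fiberι (q x) z' ∈ Y k := h5
  rw [hz'] at h6
  exact hkj h6

variable {X S : Scheme.{u}} (f : X ⟶ S)

theorem exists_stage [QuasiCompact f] [LocallyOfFinitePresentation f] (F : X.Modules) (hq : Coh.IsQCoh F)
    (hF : CohB1.IsFP F) (n : ℕ) {I : Type u} [SmallCategory I] [IsCofiltered I] {D : I ⥤ Over S} (c : Cone D)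
    (hc : IsLimit ((Over.forget S).mapCone c))
    (hD : ∀ i, IsAffine (D.obj i).left) (hT : IsAffine c.pt.left) (h : FnP f F n c.pt) :
    ∃ i, FnP f F n (D.obj i) := by
  by_contra! hcon
  obtain ⟨hcX⟩ := LimPres.isLimit_XTcone f c hc
  have haff : ∀ {i j : I} (a : i ⟶ j), IsAffineHom ((LimPres.XTD f D).map a) :=
    fun {i j} a => LimPres.isAffineHom_XTD f D hD i j a
  have hlfp : ∀ T : Over S, LocallyOfFinitePresentation (PicF.XTproj f T) := by
    intro T
    unfold PicF.XTproj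
    infer_instance
  have hlft : ∀ T : Over S, LocallyOfFiniteType (PicF.XTproj f T) := locallyOfFiniteType_XTproj f
  let Z (T : Over S) : Set (PicF.XT f T) :=
    {x | ¬ FlatMod.IsFlatOverAt (PicF.XTproj f T) (FGA.ET f F T) x}
  have hZ : ∀ T : Over S, IsClosed (Z T) := fun T => by
    have := hlfp T
    exact (Groth.Agent.Flat2G.FlatLocus.isOpen_flatLocus (PicF.XTproj f T) (FGA.ET f F T)
      (Groth.Agent.FormalA.PullbackQC.isQCoh_pullback _ _ hq)
      (Groth.Agent.FormalA.PullbackQC.isFP_pullback _ _ hF)).isClosed_compl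
  have hZst : ∀ {T T' : Over S} (g : T' ⟶ T) (x : PicF.XT f T'), x ∈ Z T' → PicF.XTmap f g x ∈ Z T :=
    fun g x hx h1 => hx (ModBC.flatOverAt_stable f g F x h1)
  let B (T : Over S) : Set (PicF.XT f T) := BSet (PicF.XTproj f T) (Z T) n
  have hB : ∀ T : Over S, IsClosed (B T) := fun T => by
    have := hlft T
    exact isClosed_BSet _ _ (hZ T) n
  have hsq : ∀ {T T' : Over S} (g : T' ⟶ T) (x : PicF.XT f T'),
      PicF.XTproj f T (PicF.XTmap f g x) = g.left (PicF.XTproj f T' x) := fun g x => by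
    rw [← Scheme.Hom.comp_apply, LimPres.XTmap_XTproj, Scheme.Hom.comp_apply]
  have hBst : ∀ {T T' : Over S} (g : T' ⟶ T) (x : PicF.XT f T'), x ∈ B T' → PicF.XTmap f g x ∈ B T := by
    rintro T T' g x ⟨z, hz, h1, h2, h3⟩
    have := hlft T
    refine ⟨PicF.XTmap f g z, hZst g z hz, h1.map (PicF.XTmap f g).continuous, ?_,
      h3.trans (RtdBC.rtd_le (isPullback_XTmap f g) z)⟩
    rw [hsq, hsq, h2]
  have hne : ∀ i, (B (D.obj i)).Nonempty := by
    intro i
    have h1 := hcon i
    rw [fnP_iff] at h1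
    push Not at h1
    obtain ⟨x, hx, hx'⟩ := h1
    exact ⟨x, x, hx, specializes_refl x, rfl, hx'⟩
  obtain ⟨x, hx⟩ : ∃ x : PicF.XT f c.pt, ∀ i, PicF.XTmap f (c.π.app i) x ∈ B (D.obj i) :=
    exists_mem_of_isClosed_of_nonempty (LimPres.XTD f D) (LimPres.XTcone f c) hcX
      (fun i => B (D.obj i)) (fun i => hB (D.obj i)) hne
      (fun i => by
        have := hD i
        have : CompactSpace (PicF.XT f (D.obj i)) := LimPres.compactSpace_XT f (D.obj i)
        exact (hB (D.obj i)).isCompact)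
      (fun {i i'} a x hx => hBst (D.map a) x hx)
  -- the closed sets
  let Y (i : I) : Set (PicF.XT f c.pt) := PicF.XTmap f (c.π.app i) ⁻¹' (Z (D.obj i))
  have hYmono : ∀ {i j : I} (_ : i ⟶ j), Y i ⊆ Y j := by
    intro i j a z hz
    change PicF.XTmap f (c.π.app j) z ∈ Z (D.obj j)
    rw [← c.w a, LimPres.XTmap_comp, Scheme.Hom.comp_apply]
    exact hZst (D.map a) _ hz
  have := hlft c.pt
  have hIne : Nonempty I := IsCofiltered.nonempty
  obtain ⟨i, hi⟩ := exists_stable (PicF.XTproj f c.pt) x Y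
    (fun i => (hZ _).preimage (PicF.XTmap f (c.π.app i)).continuous)
    (fun i j => ⟨IsCofiltered.min i j, hYmono (IsCofiltered.minToLeft i j),
      hYmono (IsCofiltered.minToRight i j)⟩)
  obtain ⟨z, hz, h1, h2, h3⟩ := hx i
  obtain ⟨w, hw1, hw2, hw3, hw4⟩ := RtdBC.exists_lift_specializes
    (isPullback_XTmap f (c.π.app i)) x z h1 h2
  have hwY : ∀ j, w ∈ Y j := fun j => hi j w hw1 hw3 (by
    change PicF.XTmap f (c.π.app i) w ∈ Z (D.obj i)
    rw [hw2]
    exact hz)
  have hwZ : w ∈ Z c.pt := by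
    intro hfl
    obtain ⟨j, hj⟩ := FlatStage.exists_stage_flatAt f F hq hF c hc hD hT w hfl
    exact hwY j hj
  have h4 := h w hwZ
  have hw4' : rtd (PicF.XTproj f c.pt) w = rtd (PicF.XTproj f (D.obj i)) z := hw4
  have h5 : (n : Cardinal.{u}) ≤ rtd (PicF.XTproj f c.pt) w := by
    rw [hw4']
    exact h3
  exact absurd h4 (not_lt.2 h5)

theorem isLimitPreserving [QuasiCompact f] [LocallyOfFinitePresentation f] (F : X.Modules) (hq : Coh.IsQCoh F)
    (hF : CohB1.IsFP F) (n : ℕ) : AlgSp.IsLimitPreserving (FlatFun.genPSp S (FnP f F n)) :=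
  LimPres.isLimitPreserving_genPSp _ (fun _ _ g h => fnP_stable f F n g h)
    (fun _ _ _ _ c hc hD hT h => exists_stage f F hq hF n c hc hD hT h)

end K256.DimLim
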