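import Groth.Agent.FlatMor.K256.StalkBas
import Groth.Agent.Fitt.K360.LocFree
import Groth.Agent.Ega4late.H544.FieldRank
import Groth.Agent.CohqB.FiniteType2

/-!
# Points near which a quasi-coherent module of finite type is generated by `p` sections
-/

set_option autoImplicit false
set_option linter.style.haveILetI false
universe u
open CategoryTheory CategoryTheory.Limits AlgebraicGeometry Opposite TopologicalSpace TensorProduct

namespace K256.FGen

open Groth.Agent.Flat2F.BasAlg Groth.Agent.Flat2F.SecBasis K256.RelIdeal K256.StalkBas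

section alg

/-- If the base change of `M` to a local ring is generated by `p` elements, then the Fitting ideal is
not contained in the corresponding prime. -/
theorem not_fitting_le {R O M N : Type u} [CommRing R] [CommRing O] [IsLocalRing O] [Algebra R O]
    [AddCommGroup M] [Module R M] [Module.Finite R M] [AddCommGroup N] [Module O N] [Module R N]
    [IsScalarTower R O N] {l : M →ₗ[R] N} (hl : IsBaseChange O l) {p : ℕ} (v : Fin p → N)
    (hv : Submodule.span O (Set.range v) = ⊤) (P : Ideal R) [P.IsPrime]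
    (hP : (IsLocalRing.maximalIdeal O).comap (algebraMap R O) = P) : ¬ Fitt.ideal R M p ≤ P := by
  let κ := IsLocalRing.ResidueField O
  have b1 : IsBaseChange κ ((TensorProduct.mk O κ N 1).restrictScalars R ∘ₗ l) :=
    hl.comp (TensorProduct.isBaseChange O N κ)
  have hker : RingHom.ker (algebraMap R κ) = P := by
    rw [IsScalarTower.algebraMap_eq R O κ, ← RingHom.comap_ker, ← hP]
    congr 1
    exact IsLocalRing.ker_residue
  have h1 : Module.finrank κ (κ ⊗[R] M) ≤ p := by
    rw [b1.equiv.finrank_eq]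
    have h2 := span_baseChange (TensorProduct.isBaseChange O N κ) v hv
    rw [← finrank_top, ← h2]
    have h3 := finrank_range_le_card (R := κ) (fun i => TensorProduct.mk O κ N 1 (v i))
    rwa [Fintype.card_fin] at h3
  rw [Groth.Agent.Ega4late.H544.FieldRank.finrank_eq_residueField M P κ hker] at h1
  exact (K360.FittFiber.not_le_prime_iff_finrank p P).2 h1

end alg

variable {X Y : Scheme.{u}}

/-- `F` is generated by `p` sections on an affine neighbourhood of `x`. -/
def Gen (F : X.Modules) (p : ℕ) (x : X) : Prop :=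
  ∃ (U : X.Opens) (s : Fin p → Γ(F, U)), IsAffineOpen U ∧ x ∈ U ∧
    Submodule.span Γ(X, U) (Set.range s) = ⊤

theorem isOpen_gen (F : X.Modules) (p : ℕ) : IsOpen {x | Gen F p x} := by
  rw [isOpen_iff_forall_mem_open]
  rintro x ⟨U, s, hU, hx, hs⟩
  exact ⟨U, fun y hy => ⟨U, s, hU, hy, hs⟩, U.2, hx⟩

variable (F : X.Modules) (hF : Coh.IsQCoh F) (hft : CohB1.IsFT F) {U : X.Opens} (hU : IsAffineOpen U) {p : ℕ}

theorem comap_stalk (x : X) (hx : x ∈ U) :
    letI := TopCat.Presheaf.algebra_section_stalk X.presheaf (⟨x, hx⟩ : U)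
    (IsLocalRing.maximalIdeal (X.presheaf.stalk x)).comap (algebraMap Γ(X, U) (X.presheaf.stalk x)) =
      (hU.primeIdealOf ⟨x, hx⟩).asIdeal := by
  let := TopCat.Presheaf.algebra_section_stalk X.presheaf (⟨x, hx⟩ : U)
  have := hU.isLocalization_stalk ⟨x, hx⟩
  exact IsLocalization.AtPrime.under_maximalIdeal _ _

include hF hft hU in
theorem not_fitting_le_of_gen {x : X} (hx : x ∈ U) (h : Gen F p x) :
    ¬ Fitt.ideal Γ(X, U) Γ(F, U) p ≤ (hU.primeIdealOf ⟨x, hx⟩).asIdeal := by
  obtain ⟨V, s, hV, hxV, hs⟩ := h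
  have : Module.Finite Γ(X, U) Γ(F, U) := Groth.Agent.CohqB.FiniteType2.finite_sections_of_isFT F hft hU
  have hgen : Submodule.span (X.presheaf.stalk x) (Set.range fun i => F.presheaf.germ V x hxV (s i)) = ⊤ := by
    refine Groth.Agent.Divis.StalkMod.stalk_elim F hF hV x hxV ?_
    intro _ _ _ _ l hl hr _
    have h1 := span_baseChange (IsLocalizedModule.isBaseChange (hV.primeIdealOf ⟨x, hxV⟩).asIdeal.primeCompl
      (X.presheaf.stalk x) l) s hs
    simpa only [hl] using h1
  refine Groth.Agent.Divis.StalkMod.stalk_elim F hF hU x hx ?_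
  intro _ _ _ _ l hl hr _
  refine not_fitting_le (IsLocalizedModule.isBaseChange (hU.primeIdealOf ⟨x, hx⟩).asIdeal.primeCompl
      (X.presheaf.stalk x) l) _ hgen _ ?_
  exact IsLocalization.AtPrime.under_maximalIdeal _ _

include hF hU in
/-- generating sections up to a denominator generate over basic opens -/
theorem span_basicOpen (s : Fin p → Γ(F, U)) (a h : Γ(X, U)) (hah : a ∣ h)
    (hs : ∀ t : Γ(F, U), a • t ∈ Submodule.span Γ(X, U) (Set.range s)) :
    Submodule.span Γ(X, X.basicOpen h) (Set.range fun i => res F (X.basicOpen_le h) (s i)) = ⊤ := by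
  rw [eq_top_iff]
  rintro t -
  obtain ⟨n, t', ht'⟩ := Groth.Agent.Fdesc.QCohStalk.exists_map_eq_pow_smul F hU hF h t
  have hres : ∀ z ∈ Submodule.span Γ(X, U) (Set.range s), res F (X.basicOpen_le h) z ∈
      Submodule.span Γ(X, X.basicOpen h) (Set.range fun i => res F (X.basicOpen_le h) (s i)) := by
    intro z hz
    induction hz using Submodule.span_induction with
    | mem z hz =>
      obtain ⟨i, rfl⟩ := hz
      exact Submodule.subset_span ⟨i, rfl⟩
    | zero => rw [show res F (X.basicOpen_le h) (0 : Γ(F, U)) = 0 from map_zero _]; exact zero_mem _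
    | add x y _ _ hx hy =>
      rw [show res F (X.basicOpen_le h) (x + y) = res F (X.basicOpen_le h) x + res F (X.basicOpen_le h) y from
        map_add _ _ _]
      exact add_mem hx hy
    | smul c x _ hx => rw [res_smul]; exact Submodule.smul_mem _ _ hx
  have h1 := hres _ (hs t')
  rw [res_smul] at h1
  have h2 : res F (X.basicOpen_le h) t' = (X.presheaf.map (homOfLE (X.basicOpen_le h)).op h) ^ n • t := ht'
  rw [h2, smul_smul] at h1
  have hu : IsUnit (X.presheaf.map (homOfLE (X.basicOpen_le h)).op h) := RingedSpace.isUnit_res_basicOpen _ h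
  have hua : IsUnit (X.presheaf.map (homOfLE (X.basicOpen_le h)).op a) := by
    obtain ⟨b, rfl⟩ := hah
    rw [map_mul] at hu
    exact isUnit_of_mul_isUnit_left hu
  obtain ⟨u, hu'⟩ := hua.mul (hu.pow n)
  rw [← hu'] at h1
  have h3 := Submodule.smul_mem _ ((u⁻¹ : (Γ(X, X.basicOpen h))ˣ) : Γ(X, X.basicOpen h)) h1
  rwa [smul_smul, Units.inv_mul, one_smul] at h3

include hF hft hU in
/-- generating sections near a point outside of the Fitting locus -/
theorem exists_generators {x : X} (hx : x ∈ U)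
    (h : ¬ Fitt.ideal Γ(X, U) Γ(F, U) p ≤ (hU.primeIdealOf ⟨x, hx⟩).asIdeal) :
    ∃ (s : Fin p → Γ(F, U)) (a : Γ(X, U)), x ∈ X.basicOpen a ∧
      ∀ t : Γ(F, U), a • t ∈ Submodule.span Γ(X, U) (Set.range s) := by
  have : Module.Finite Γ(X, U) Γ(F, U) := Groth.Agent.CohqB.FiniteType2.finite_sections_of_isFT F hft hU
  obtain ⟨s, a, ha, hs⟩ := K360.FittFiber.exists_generators_of_finrank_le p _
    ((K360.FittFiber.not_le_prime_iff_finrank p _).mp h)
  exact ⟨s, a, (Groth.Agent.Fdesc.QCohStalk.mem_basicOpen_iff hU x hx a).2 ha, hs⟩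

include hF hft hU in
theorem gen_iff {x : X} (hx : x ∈ U) :
    Gen F p x ↔ ¬ Fitt.ideal Γ(X, U) Γ(F, U) p ≤ (hU.primeIdealOf ⟨x, hx⟩).asIdeal := by
  refine ⟨not_fitting_le_of_gen F hF hft hU hx, fun h => ?_⟩
  obtain ⟨s, a, ha, hs⟩ := exists_generators F hF hft hU hx h
  exact ⟨X.basicOpen a, _, hU.basicOpen a, ha, span_basicOpen F hF hU s a a dvd_rfl hs⟩

include hF hft in
theorem gen_of_pullback (g : Y ⟶ X) (y : Y)
    (h : FlatFun.IsFreeOfRankNear ((Scheme.Modules.pullback g).obj F) p y) : Gen F p (g.base y) := by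
  obtain ⟨U, hU, hx, -⟩ := exists_isAffineOpen_mem_and_subset (x := g.base y) (U := ⊤) trivial
  rw [gen_iff F hF hft hU hx]
  have : Module.Finite Γ(X, U) Γ(F, U) := Groth.Agent.CohqB.FiniteType2.finite_sections_of_isFT F hft hU
  obtain ⟨V, hyV, hV⟩ := h
  rw [nonempty_restrict_iso_iff] at hV
  obtain ⟨t, ht⟩ := hV
  have hb := ht.basAt y hyV
  refine pull_elim g F hF hU y hx ?_
  intro _ _ _ l hl hr hbc
  refine not_fitting_le hbc (fun i => ((Scheme.Modules.pullback g).obj F).presheaf.germ V y hyV (t i)) ?_ _ ?_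
  · rw [← Fintype.range_linearCombination, LinearMap.range_eq_top]
    exact hb.2
  · ext a
    rw [Ideal.mem_comap, hr, IsLocalRing.mem_maximalIdeal, mem_nonunits_iff]
    have h1 := Groth.Agent.Fdesc.QCohStalk.mem_basicOpen_iff hU (g.base y) hx a
    have h2 := X.mem_basicOpen a (g.base y) hx
    have h3 : IsUnit (Y.presheaf.germ (g ⁻¹ᵁ U) y hx (g.app U a)) ↔ IsUnit (X.presheaf.germ U (g.base y) hx a) := by
      have h4 : Y.presheaf.germ (g ⁻¹ᵁ U) y hx (g.app U a) = g.stalkMap y (X.presheaf.germ U (g.base y) hx a) :=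
        (Scheme.Hom.germ_stalkMap_apply g U y hx a).symm
      rw [h4]
      exact isUnit_map_iff (g.stalkMap y).hom _
    rw [h3, ← h2, h1]
    exact not_not

end K256.FGen
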