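import Groth.Agent.S1262
import Groth.Agent.Flat2C.FlatSec
import Groth.Agent.CohqB.FiniteType2
import Groth.Agent.Desc.DimMap
import Groth.Agent.CycB.RelDim2
import Groth.Agent.Sga2lef.H106.UFlat

/-!
# The non-flat locus in the fibres

For `f : X ⟶ S` locally of finite type and `F` quasi-coherent of finite type:
* `isClosed_nonflat_fiber` : the set of points of a fibre where `F` is not flat over `S` is closed.
* `dim_nonflat_lt_iff` : it has dimension `< n` iff `rtd f x < n` at each of its points.
-/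

set_option autoImplicit false
universe u
open CategoryTheory CategoryTheory.Limits AlgebraicGeometry Opposite TopologicalSpace
open Groth.Agent.CycB.RelDim

namespace K256.FibreOpen

variable {X S : Scheme.{u}} (f : X ⟶ S)

/-- Around a point where `F` is flat over `S` there is an open of `X` on whose points in the same
fibre `F` is flat over `S`. -/
theorem exists_open_flat [LocallyOfFiniteType f] (F : X.Modules) [Coh.IsQCoh F] (hF : CohB1.IsFT F)
    (x : X) (hx : FlatMod.IsFlatOverAt f F x) :
    ∃ W : X.Opens, x ∈ W ∧ ∀ y ∈ W, f.base y = f.base x → FlatMod.IsFlatOverAt f F y := by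
  obtain ⟨V, U, hV, hU, e, hxU⟩ := exists_affine_nhds f x
  let i1 : Algebra Γ(S, V) Γ(X, U) := Groth.Agent.Flat2C.FlatSec.algebraOver f e
  let i2 : Module Γ(S, V) Γ(F, U) := Groth.Agent.Flat2C.FlatSec.moduleOver f F e
  have i3 : IsScalarTower Γ(S, V) Γ(X, U) Γ(F, U) :=
    Groth.Agent.Flat2C.FlatSec.isScalarTower_over f F e
  have i4 : Algebra.FiniteType Γ(S, V) Γ(X, U) := f.finiteType_appLE hV hU e
  have i5 : Module.Finite Γ(X, U) Γ(F, U) :=
    Groth.Agent.CohqB.FiniteType2.finite_sections_of_isFT F hF hU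
  let p := (hV.primeIdealOf ⟨f.base x, e hxU⟩).asIdeal
  have key : ∀ (y : X) (hy : y ∈ U), f.base y = f.base x →
      (hU.primeIdealOf ⟨y, hy⟩).asIdeal.LiesOver p := by
    intro y hy hyx
    refine ⟨?_⟩
    have h1 := congrArg PrimeSpectrum.asIdeal (IsAffineOpen.comap_primeIdealOf_appLE V hV U hU e hy)
    have h2 : (⟨f.base y, e hy⟩ : V) = ⟨f.base x, e hxU⟩ := Subtype.ext hyx
    change (hV.primeIdealOf ⟨f.base x, e hxU⟩).asIdeal = _
    rw [← h2]
    exact h1.symm
  have h0 := key x hxU rfl
  obtain ⟨a, ha, H⟩ := Groth.Agent.S1262.exists_notMem_forall_flatAt Γ(F, U) p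
    (hU.primeIdealOf ⟨x, hxU⟩).asIdeal
    ((Groth.Agent.Flat2C.FlatSec.isFlatOverAt_iff_flatAt f F hU hV e inferInstance x hxU).1 hx)
  refine ⟨X.basicOpen a, (Groth.Agent.Fdesc.QCohStalk.mem_basicOpen_iff hU x hxU a).2 ha,
    fun y hy hyx => ?_⟩
  have hyU : y ∈ U := X.basicOpen_le a hy
  rw [Groth.Agent.Flat2C.FlatSec.isFlatOverAt_iff_flatAt f F hU hV e inferInstance y hyU]
  exact H _ (key y hyU hyx) ((Groth.Agent.Fdesc.QCohStalk.mem_basicOpen_iff hU y hyU a).1 hy)

/-- The non-flat locus is closed in the fibres. -/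
theorem isClosed_nonflat_fiber [LocallyOfFiniteType f] (F : X.Modules) [Coh.IsQCoh F]
    (hF : CohB1.IsFT F) (s : S) :
    IsClosed ((f.fiberι s) ⁻¹' {x | ¬ FlatMod.IsFlatOverAt f F x}) := by
  rw [← isOpen_compl_iff, isOpen_iff_forall_mem_open]
  intro z hz
  have hz' : FlatMod.IsFlatOverAt f F (f.fiberι s z) := not_not.1 hz
  obtain ⟨W, hzW, hW⟩ := exists_open_flat f F hF _ hz'
  refine ⟨(f.fiberι s) ⁻¹' W, fun y hy => ?_, W.2.preimage (f.fiberι s).continuous, hzW⟩
  refine not_not.2 (hW _ hy ?_)
  have h1 : ∀ w : f.fiber s, f (f.fiberι s w) = s := by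
    intro w
    have : f.fiberι s w ∈ Set.range (f.fiberι s) := ⟨w, rfl⟩
    rw [Scheme.Hom.range_fiberι] at this
    exact this
  exact (h1 y).trans (h1 z).symm

theorem dim_eq (C : Set X) (s : S) :
    topologicalKrullDim ↑(f ⁻¹' {s} ∩ C) = topologicalKrullDim ↑((f.fiberι s) ⁻¹' C) := by
  have h1 : (f.fiberι s) '' ((f.fiberι s) ⁻¹' C) = f ⁻¹' {s} ∩ C := by
    rw [Set.image_preimage_eq_inter_range, Scheme.Hom.range_fiberι, Set.inter_comm]
  rw [← h1]
  exact (IsHomeomorph.topologicalKrullDim_eq _
    ((f.fiberι s).isEmbedding.homeomorphImage ((f.fiberι s) ⁻¹' C)).isHomeomorph).symm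

attribute [local instance] specializationOrder

theorem length_le [LocallyOfFiniteType f] (C : Set X) (s : S)
    (n : ℕ) : ∀ (p : @LTSeries ↑((f.fiberι s) ⁻¹' C) (specializationOrder _).toPreorder),
      p.length = n →
      (n : Cardinal.{u}) ≤ rtd f (f.fiberι s (p.last : f.fiber s)) := by
  induction n with
  | zero => intro p _; simp
  | succ n ih =>
    intro p hp
    have h1 := ih p.eraseLast (by simp [hp])
    have h2 : @LT.lt _ (specializationOrder _).toPreorder.toLT p.eraseLast.last p.last :=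
      p.eraseLast_last_rel_last (by omega)
    have h3 : (p.last : f.fiber s) ⤳ (p.eraseLast.last : f.fiber s) :=
      Topology.IsInducing.subtypeVal.specializes_iff.mpr
        (@LT.lt.le _ (specializationOrder _).toPreorder _ _ h2)
    have h4 : (p.last : f.fiber s) ≠ (p.eraseLast.last : f.fiber s) := fun h ↦
      (@LT.lt.ne _ (specializationOrder _).toPreorder _ _ h2) (Subtype.ext h.symm)
    have hy : ∀ w : f.fiber s, f (f.fiberι s w) = s := by
      intro w
      have : f.fiberι s w ∈ Set.range (f.fiberι s) := ⟨w, rfl⟩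
      rw [Scheme.Hom.range_fiberι] at this
      exact this
    have h5 := rtd_lt_of_specializes f (h3.map (f.fiberι s).continuous)
      (fun h ↦ h4 ((f.fiberι s).isEmbedding.injective h)) (by rw [hy, hy])
    have h6 := h1.trans_lt h5
    have h7 := rtd_lt_aleph0 f (f.fiberι s (p.last : f.fiber s))
    obtain ⟨m, hm⟩ := Cardinal.lt_aleph0.mp h7
    rw [hm] at h6 ⊢
    exact_mod_cast h6

/-- For a subset `C` of `X` which is closed in the fibre over `s`: the fibre of `C` over `s` has
dimension `< n` iff the residue field extensions at its points have transcendence degree `< n`. -/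
theorem dim_lt_iff [LocallyOfFiniteType f] (C : Set X) (s : S)
    (hC : IsClosed ((f.fiberι s) ⁻¹' C)) (n : ℕ) :
    topologicalKrullDim ↑(f ⁻¹' {s} ∩ C) < n ↔ ∀ x ∈ C, f.base x = s → rtd f x < n := by
  rw [dim_eq]
  constructor
  · intro h x hx hxs
    obtain ⟨z, rfl⟩ : x ∈ Set.range (f.fiberι s) := by
      rw [Scheme.Hom.range_fiberι]; exact hxs
    obtain ⟨m, hm, hm'⟩ := exists_dim_closure_fiber f s z
    have hsub : closure {z} ⊆ (f.fiberι s) ⁻¹' C :=
      closure_minimal (Set.singleton_subset_iff.mpr hx) hC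
    have h1 := (Topology.IsInducing.topologicalKrullDim_le
      (Topology.IsEmbedding.inclusion hsub).isInducing).trans_lt h
    rw [hm'] at h1
    rw [hm]
    have h2 : ((m : ℕ∞) : WithBot ℕ∞) < ((n : ℕ∞) : WithBot ℕ∞) := h1
    rw [WithBot.coe_lt_coe, ENat.natCast_lt_natCast] at h2
    exact_mod_cast h2
  · intro h
    have : QuasiSober ↑((f.fiberι s) ⁻¹' C) := hC.isClosedEmbedding_subtypeVal.quasiSober
    rw [Groth.Agent.Desc.DimMap.topologicalKrullDim_eq]
    have hs : ∀ w : f.fiber s, f.base (f.fiberι s w) = s := by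
      intro w
      have : f.fiberι s w ∈ Set.range (f.fiberι s) := ⟨w, rfl⟩
      rw [Scheme.Hom.range_fiberι] at this
      exact this
    have hlen : ∀ p : @LTSeries ↑((f.fiberι s) ⁻¹' C) (specializationOrder _).toPreorder,
        p.length < n := by
      intro p
      have h1 := length_le f C s p.length p rfl
      have h2 := h1.trans_lt (h _ (p.last).2 (hs _))
      exact_mod_cast h2
    rcases isEmpty_or_nonempty ↑((f.fiberι s) ⁻¹' C) with hemp | hne
    · rw [@Order.krullDim_eq_bot _ (specializationOrder _).toPreorder hemp]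
      exact WithBot.bot_lt_coe _
    · have hn : 0 < n := by
        obtain ⟨z⟩ := hne
        exact lt_of_le_of_lt (Nat.zero_le _)
          (hlen (@RelSeries.singleton _ {(a, b) | @LT.lt _ (specializationOrder _).toPreorder.toLT a b} z))
      refine lt_of_le_of_lt (iSup_le (a := (((n - 1 : ℕ) : ℕ∞) : WithBot ℕ∞)) fun p ↦ ?_) ?_
      · have := hlen p
        have h3 : p.length ≤ n - 1 := by omega
        change ((p.length : ℕ∞) : WithBot ℕ∞) ≤ _
        rw [WithBot.coe_le_coe, ENat.natCast_le_natCast]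
        exact h3
      · have h4 : n - 1 < n := by omega
        change _ < ((n : ℕ∞) : WithBot ℕ∞)
        rw [WithBot.coe_lt_coe, ENat.natCast_lt_natCast]
        exact h4

end K256.FibreOpen
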