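import Groth.Prelude.Def_FlatFun

/-!
# Representability of `FlatFun.genPSp`
-/

set_option autoImplicit false
universe u
open CategoryTheory CategoryTheory.Limits AlgebraicGeometry Opposite

namespace K256.GenRepr

variable {S : Scheme.{u}}

instance subsingleton_hom (T Z : Over S) [Mono Z.hom] : Subsingleton (T ⟶ Z) :=
  ⟨fun a b => Over.OverMorphism.ext ((cancel_mono Z.hom).1 ((Over.w a).trans (Over.w b).symm))⟩

/-- `genPSp S P` is represented by `Z`, for `Z ⟶ S` a monomorphism, if the two agree on objects. -/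
theorem nonempty_representableBy (P : Over S → Prop) (hst : ∀ ⦃T T₀ : Over S⦄ (_ : T ⟶ T₀), P T₀ → P T)
    (Z : Over S) [Mono Z.hom] (h : ∀ T : Over S, Nonempty (T ⟶ Z) ↔ P T) :
    Nonempty ((FlatFun.genPSp S P).RepresentableBy Z) := by
  have h1 : ∀ T : Over S, Nonempty ((FlatFun.genPSp S P).obj (op T)) ↔ Nonempty (T ⟶ Z) := fun T => by
    rw [FlatFun.genPSp_nonempty_iff_of_stable P hst, h]
  exact ⟨{ homEquiv := fun {T} =>
            { toFun := fun a => Classical.choice ((h1 T).2 ⟨a⟩)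
              invFun := fun x => Classical.choice ((h1 T).1 ⟨x⟩)
              left_inv := fun _ => Subsingleton.elim _ _
              right_inv := fun _ => Subsingleton.elim _ _ }
           homEquiv_comp := fun _ _ => Subsingleton.elim _ _ }⟩

/-- Conversely. -/
theorem nonempty_hom_iff (P : Over S → Prop) (hst : ∀ ⦃T T₀ : Over S⦄ (_ : T ⟶ T₀), P T₀ → P T)
    (Z : Over S) (h : (FlatFun.genPSp S P).RepresentableBy Z) (T : Over S) :
    Nonempty (T ⟶ Z) ↔ P T := by
  rw [← FlatFun.genPSp_nonempty_iff_of_stable P hst]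
  exact ⟨fun ⟨a⟩ => ⟨h.homEquiv a⟩, fun ⟨x⟩ => ⟨h.homEquiv.symm x⟩⟩

end K256.GenRepr
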