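import Groth.Prelude.Def_FlatFun
import Mathlib.AlgebraicGeometry.Sites.Fpqc
import Mathlib.CategoryTheory.Sites.Over
import Groth.Prelude.Def_QuotSh

/-!
# The fpqc sheaf condition for `FlatFun.genPSp`

* `isSheaf_genPSp`: for a condition stable under base change, the sheaf condition for the fpqc
  topology is locality for fpqc coverings.
* `isSheaf_genPSp_of_pointwise`: it suffices that the condition can be checked after a jointly
  surjective family of flat morphisms.
-/

set_option autoImplicit false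
universe u
open CategoryTheory CategoryTheory.Limits AlgebraicGeometry Opposite

namespace K256.GenSheaf

variable {S : Scheme.{u}}

/-- A subsingleton-valued presheaf is a sheaf when nonemptiness of its values is local. -/
theorem isSheaf_of_subsingleton {C : Type*} [Category C] (J : GrothendieckTopology C)
    (F : Cᵒᵖ ⥤ Type*) (hF : ∀ T, Subsingleton (F.obj T))
    (h : ∀ (T : C) (R : Sieve T), R ∈ J T → (∀ ⦃Y⦄ (g : Y ⟶ T), R g → Nonempty (F.obj (op Y))) →
      Nonempty (F.obj (op T))) : Presheaf.IsSheaf J F := by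
  rw [isSheaf_iff_isSheaf_of_type]
  intro T R hR x hx
  have := hF
  obtain ⟨t⟩ := h T R hR (fun Y g hg => ⟨x g hg⟩)
  exact ⟨t, fun Y g hg => Subsingleton.elim _ _, fun _ _ => Subsingleton.elim _ _⟩

/-- For a condition stable under base change, `genPSp` is an fpqc sheaf when the condition is local
for fpqc coverings. -/
theorem isSheaf_genPSp (P : Over S → Prop) (hst : ∀ ⦃T T₀ : Over S⦄ (_ : T ⟶ T₀), P T₀ → P T)
    (hloc : ∀ (T : Over S) (R : Presieve T.left), R ∈ Scheme.fpqcPrecoverage T.left →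
      (∀ ⦃Y : Scheme.{u}⦄ (g : Y ⟶ T.left), R g → P (Over.mk (g ≫ T.hom))) → P T) :
    Presheaf.IsSheaf (QuotSh.J Scheme.fpqcPrecoverage S) (FlatFun.genPSp S P) := by
  refine isSheaf_of_subsingleton _ _ (fun T => inferInstance) fun T R hR h => ?_
  rw [FlatFun.genPSp_nonempty_iff_of_stable P hst]
  rw [GrothendieckTopology.mem_over_iff,
    Precoverage.mem_toGrothendieck_iff_of_isStableUnderComposition] at hR
  obtain ⟨R', hR', hle⟩ := hR
  refine hloc T R' hR' fun Y g hg => ?_
  have h1 := hle _ g hg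
  rw [Sieve.overEquiv_iff] at h1
  have h2 := h _ h1
  rwa [FlatFun.genPSp_nonempty_iff_of_stable P hst] at h2

theorem flat_of_mem_fpqcPrecoverage {T : Scheme.{u}} {R : Presieve T}
    (hR : R ∈ Scheme.fpqcPrecoverage T) {Y : Scheme.{u}} {g : Y ⟶ T} (hg : R g) : Flat g :=
  hR.2.2 hg

theorem exists_of_mem_fpqcPrecoverage {T : Scheme.{u}} {R : Presieve T}
    (hR : R ∈ Scheme.fpqcPrecoverage T) (t : T) :
    ∃ (Y : Scheme.{u}) (g : Y ⟶ T) (y : Y), R g ∧ g.base y = t := by
  obtain ⟨ι, Z, g, rfl⟩ := R.exists_eq_ofArrows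
  have h := hR.2
  obtain ⟨i, y, hy⟩ := (Scheme.ofArrows_mem_precoverage_iff (P := @Flat)).1 h |>.1 t
  exact ⟨Z i, g i, y, Presieve.ofArrows.mk i, hy⟩

/-- For a condition stable under base change, `genPSp` is an fpqc sheaf when the condition can be
checked after a jointly surjective family of flat morphisms. -/
theorem isSheaf_genPSp_of_pointwise (P : Over S → Prop)
    (hst : ∀ ⦃T T₀ : Over S⦄ (_ : T ⟶ T₀), P T₀ → P T)
    (hloc : ∀ (T : Over S), (∀ t : T.left, ∃ (Y : Scheme.{u}) (g : Y ⟶ T.left) (y : Y), Flat g ∧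
      g.base y = t ∧ P (Over.mk (g ≫ T.hom))) → P T) :
    Presheaf.IsSheaf (QuotSh.J Scheme.fpqcPrecoverage S) (FlatFun.genPSp S P) := by
  refine isSheaf_genPSp P hst fun T R hR h => hloc T fun t => ?_
  obtain ⟨Y, g, y, hg, hy⟩ := exists_of_mem_fpqcPrecoverage hR t
  exact ⟨Y, g, y, flat_of_mem_fpqcPrecoverage hR hg, hy, h g hg⟩

end K256.GenSheaf
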