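import Groth.Agent.FlatMor.K256.Chart
import Groth.Agent.FlatMor.K256.ClosedGlue

/-!
# The functor `H_p` over a chart is a closed subscheme
-/

set_option autoImplicit false
set_option linter.style.haveILetI false
universe u
open CategoryTheory CategoryTheory.Limits AlgebraicGeometry Opposite TopologicalSpace TensorProduct

namespace K256.HpChart

open Groth.Agent.Flat2F.BasAlg Groth.Agent.Flat2F.SecBasis K256.RelIdeal K256.StalkBas K256.FGen K256.ChartVan
  K256.ChartDef K256.HpStab K256.WeilClosed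

variable {X S : Scheme.{u}} {f : X ⟶ S} {F : X.Modules} {p : ℕ} (c : Chart f F p)

/-- the ideal of the closed subscheme representing `H_p` -/
noncomputable def ideal : Ideal Γ(S, c.W) := coeff (f.appLE c.W c.U c.le).hom (relIdeal Γ(X, c.U) c.s)

variable (hF : Coh.IsQCoh F) [Smooth f] [GeometricallyIrreducible f]

include hF in
theorem P_iff_app (T : Over S) (hT : ∀ t : T.left, T.hom.base t ∈ c.W) :
    P f F p T ↔ ∀ b ∈ relIdeal Γ(X, c.U) c.s, (pullback.fst f T.hom).app c.U b = 0 := by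
  have hgen : ∀ {x : PicF.XT f T}, FlatFun.IsGenericPtOfFibre (PicF.XTproj f T) x →
      (pullback.fst f T.hom).base x ∈ c.U := by
    intro x hx
    obtain ⟨x₀, hx₀, hx₀'⟩ := c.surj _ (hT ((PicF.XTproj f T).base x))
    obtain ⟨z, hz1, hz2⟩ := Scheme.Pullback.exists_preimage_pullback (f := f) (g := T.hom) x₀
      ((PicF.XTproj f T).base x) hx₀'
    have hz : z ∈ (pullback.fst f T.hom) ⁻¹ᵁ c.U := by
      change (pullback.fst f T.hom).base z ∈ c.U
      rw [hz1]
      exact hx₀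
    exact generic_mem (U := (pullback.fst f T.hom) ⁻¹ᵁ c.U) hx hz hz2
  constructor
  · intro h b hb
    refine app_eq_zero_of_generic (IsPullback.of_hasPullback f T.hom) c.hW c.hU c.le (isProj c) (isGI c)
      hT b fun t => ?_
    obtain ⟨x, hx1, hx2, hx3⟩ := h t
    exact ⟨x, hgen hx2, hx1, (basAt_pullback_iff (pullback.fst f T.hom) F hF c.hU c.hs x (hgen hx2)).1
      (basAt_of_isFreeOfRankNear (pullback.fst f T.hom) F hF c.hU c.hs x (hgen hx2) hx3) b hb⟩
  · intro h
    rw [P_iff]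
    intro x hx
    exact isFreeOfRankNear_of_basOn ((basOn_pullback_iff (pullback.fst f T.hom) F hF c.hU c.hs).2 h) (hgen hx)

include hF in
theorem P_iff_appLE (T : Over S) (hT : ∀ t : T.left, T.hom.base t ∈ c.W) :
    P f F p T ↔ ∀ a ∈ ideal c, ∀ V : T.left.affineOpens, T.hom.appLE c.W V (fun t _ => hT t) a = 0 := by
  rw [P_iff_app c hF T hT, forall_app_eq_zero_iff (IsPullback.of_hasPullback f T.hom) c.hW c.hU c.le (isProj c) hT]
  rfl

theorem appLE_fromSpec {W : S.Opens} (hW : IsAffineOpen W) {T : Scheme.{u}} (t : T ⟶ Spec Γ(S, W)) (V : T.Opens)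
    (hV : V ≤ (t ≫ hW.fromSpec) ⁻¹ᵁ W) :
    (t ≫ hW.fromSpec).appLE W V hV = (Scheme.ΓSpecIso Γ(S, W)).inv ≫ t.appLE ⊤ V (le_pre_top t V) := by
  have h0 : (⊤ : (Spec Γ(S, W)).Opens) ≤ hW.fromSpec ⁻¹ᵁ W := by rw [hW.fromSpec_preimage_self]
  rw [← Scheme.Hom.appLE_comp_appLE t hW.fromSpec W ⊤ V h0 (le_pre_top t V)]
  congr 1
  rw [Scheme.Hom.appLE, hW.fromSpec_app_self, Category.assoc, ← Functor.map_comp]
  refine (congrArg (fun a => (Scheme.ΓSpecIso Γ(S, W)).inv ≫ a) ?_).trans (Category.comp_id _)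
  exact (Spec Γ(S, W)).presheaf.map_id _

theorem fromSpec_mem {W : S.Opens} (hW : IsAffineOpen W) (y : Spec Γ(S, W)) : hW.fromSpec.base y ∈ W := by
  have : hW.fromSpec.base y ∈ Set.range hW.fromSpec.base := ⟨y, rfl⟩
  rw [hW.range_fromSpec] at this
  exact this

include hF in
theorem P_iff_factor (T : Scheme.{u}) (t : T ⟶ Spec Γ(S, c.W)) :
    P f F p (Over.mk (t ≫ c.hW.fromSpec)) ↔ ∃ l, l ≫ ClosedGlue.zι (ideal c) = t := by
  have hT : ∀ τ : T, (t ≫ c.hW.fromSpec).base τ ∈ c.W := fun τ => fromSpec_mem c.hW _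
  rw [P_iff_appLE c hF (Over.mk (t ≫ c.hW.fromSpec)) hT]
  have h1 := factor_iff (R := Γ(S, c.W)) (ideal c) t
  refine Iff.trans ?_ h1.symm
  refine forall₂_congr fun a _ => ?_
  have h2 := rm_eq_zero_iff (R := Γ(S, c.W)) t (fun V : T.affineOpens => (V : T.Opens))
    (iSup_affineOpens_eq_top T) a
  refine Iff.trans ?_ h2.symm
  refine forall_congr' fun (V : T.affineOpens) => ?_
  have h3 : (t ≫ c.hW.fromSpec).appLE c.W V.1 (fun τ _ => hT τ) = rm (R := Γ(S, c.W)) t V.1 :=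
    appLE_fromSpec c.hW t V.1 _
  change (t ≫ c.hW.fromSpec).appLE c.W V.1 (fun τ _ => hT τ) a = 0 ↔ _
  rw [h3]

include hF in
/-- The chart of `H_p`. -/
theorem isChart : ClosedGlue.IsChart (fun T (g : T ⟶ S) => P f F p (Over.mk g)) c.hW.fromSpec (ideal c) :=
  ⟨inferInstance, fun T t => P_iff_factor c hF T t⟩

omit [Smooth f] [GeometricallyIrreducible f] in
theorem ideal_fg [Smooth f] [GeometricallyIrreducible f] (hfp : Module.FinitePresentation Γ(X, c.U) Γ(F, c.U)) :
    (ideal c).FG :=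
  coeff_fg (isProj c) (relIdeal_fg c.s c.hs)

end K256.HpChart
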