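import Groth.Agent.FlatMor.K256.HpChart
import Groth.Agent.FlatMor.K256.GenRepr
import Groth.Agent.Fitt.K360.Basic
import Groth.Agent.Desc.FPSections
import Mathlib.AlgebraicGeometry.Morphisms.Flat

/-!
# Representability of the functor `H_p`
-/

set_option autoImplicit false
set_option linter.style.haveILetI false
universe u
open CategoryTheory CategoryTheory.Limits AlgebraicGeometry Opposite TopologicalSpace TensorProduct

namespace K256.HpRep

open K256.FGen K256.ChartDef K256.HpStab K256.HpChart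

variable {X S : Scheme.{u}} (f : X ⟶ S) [Smooth f] (F : X.Modules) (p : ℕ)

/-- The open set of the points of `S` over which `F` is generated by `p` sections near some point. -/
def V : S.Opens := ⟨f.base '' {x | Gen F p x}, f.isOpenMap _ (isOpen_gen F p)⟩

variable {f F p} [GeometricallyIrreducible f] (hF : Coh.IsQCoh F) (hft : CohB1.IsFT F)

omit [GeometricallyIrreducible f] in
include hF hft in
theorem mem_V_of_P (T : Over S) (h : P f F p T) (t : T.left) : T.hom.base t ∈ V f F p := by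
  obtain ⟨x, hx, -, hx'⟩ := h t
  refine ⟨(pullback.fst f T.hom).base x, gen_of_pullback F hF hft _ _ hx', ?_⟩
  rw [← hx]
  exact congrArg (fun a : PicF.XT f T ⟶ S => a.base x) (pullback.condition (f := f) (g := T.hom))

omit [GeometricallyIrreducible f] in
theorem W_le_V (c : Chart f F p) : c.W ≤ V f F p := by
  intro y hy
  obtain ⟨x, hx, rfl⟩ := c.surj y hy
  exact ⟨x, ⟨c.U, c.s, c.hU, hx, c.hs⟩, rfl⟩

/-- `H_p` restricted to `V`. -/
abbrev PV (f : X ⟶ S) [Smooth f] (F : X.Modules) (p : ℕ) ⦃T : Scheme.{u}⦄ (g : T ⟶ (V f F p).toScheme) : Prop :=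
  P f F p (Over.mk (g ≫ (V f F p).ι))

include hF hft in
theorem exists_isChart (y : (V f F p).toScheme) : ∃ (c : Chart f F p) (j : Spec Γ(S, c.W) ⟶ (V f F p).toScheme),
    ClosedGlue.IsChart (PV f F p) j (ideal c) ∧ y ∈ Set.range j.base := by
  obtain ⟨x, hx, hxy⟩ := y.2
  obtain ⟨c, hc⟩ := exists_chart f f.isOpenMap F hF hft p x hx
  have hyW : y.1 ∈ c.W := by
    rw [← hxy]
    exact c.le hc
  have hr : Set.range c.hW.fromSpec.base ⊆ Set.range (V f F p).ι.base := by
    rw [c.hW.range_fromSpec, Scheme.Opens.range_ι]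
    exact W_le_V c
  have hj : IsOpenImmersion.lift (V f F p).ι c.hW.fromSpec hr ≫ (V f F p).ι = c.hW.fromSpec :=
    IsOpenImmersion.lift_fac _ _ _
  refine ⟨c, IsOpenImmersion.lift (V f F p).ι c.hW.fromSpec hr, ⟨?_, fun T t => ?_⟩, ?_⟩
  · have : IsOpenImmersion (IsOpenImmersion.lift (V f F p).ι c.hW.fromSpec hr ≫ (V f F p).ι) := by
      rw [hj]; infer_instance
    exact IsOpenImmersion.of_comp _ (V f F p).ι
  · rw [← P_iff_factor c hF T t]
    change P f F p (Over.mk ((t ≫ _) ≫ _)) ↔ _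
    rw [Category.assoc, hj]
  · have hy : y.1 ∈ Set.range c.hW.fromSpec.base := by
      rw [c.hW.range_fromSpec]
      exact hyW
    obtain ⟨z, hz⟩ := hy
    refine ⟨z, (V f F p).ι.isOpenEmbedding.injective ?_⟩
    have h2 : (V f F p).ι.base ((IsOpenImmersion.lift (V f F p).ι c.hW.fromSpec hr).base z) =
        c.hW.fromSpec.base z := by
      conv_rhs => rw [← hj]
      rfl
    rw [h2, hz]
    rfl

include hF hft in
theorem exists_closed : ∃ (Z : Scheme.{u}) (j : Z ⟶ (V f F p).toScheme), IsClosedImmersion j ∧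
    ∀ (T : Scheme.{u}) (g : T ⟶ (V f F p).toScheme), (∃ g' : T ⟶ Z, g' ≫ j = g) ↔ PV f F p g := by
  refine ClosedGlue.exists_closedImmersion (PV f F p) ?_ ?_ ?_
  · intro T T' h g hg
    let k : Over.mk ((h ≫ g) ≫ (V f F p).ι) ⟶ Over.mk (g ≫ (V f F p).ι) :=
      Over.homMk h (by simp)
    exact stable k hg
  · intro T g hg t
    obtain ⟨T', h, hh, ⟨t', ht'⟩, hP⟩ := hg t
    let k : Over.mk ((h ≫ g) ≫ (V f F p).ι) ⟶ Over.mk (g ≫ (V f F p).ι) :=
      Over.homMk h (by simp)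
    have : IsOpenImmersion k.left := hh
    obtain ⟨x, h1, h2, h3⟩ := of_openImmersion k hP t'
    exact ⟨x, h1.trans ht', h2, h3⟩
  · intro y
    obtain ⟨c, j, h1, h2⟩ := exists_isChart hF hft y
    exact ⟨_, j, _, h1, h2⟩

include hF hft in
theorem lfp (hfp : CohB1.IsFP F) {Z : Scheme.{u}} (j : Z ⟶ (V f F p).toScheme) [IsClosedImmersion j]
    (hj : ∀ (T : Scheme.{u}) (g : T ⟶ (V f F p).toScheme), (∃ g' : T ⟶ Z, g' ≫ j = g) ↔ PV f F p g) :
    LocallyOfFinitePresentation j := by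
  refine ClosedGlue.locallyOfFinitePresentation j hj fun y => ?_
  obtain ⟨c, j, h1, h2⟩ := exists_isChart hF hft y
  exact ⟨_, j, _, h1, h2, ideal_fg c (Groth.Agent.Desc.FPSections.finitePresentation_sections c.hU hF hfp)⟩

/-- The locus where `F` is generated by `p` sections is compact on affine opens if `F` is finitely presented. -/
theorem isCompact_gen {X : Scheme.{u}} {F : X.Modules} (hF : Coh.IsQCoh F) (hft : CohB1.IsFT F)
    (hfp : CohB1.IsFP F) (p : ℕ) {U : X.Opens} (hU : IsAffineOpen U) :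
    IsCompact {x : X | x ∈ U ∧ Gen F p x} := by
  have hM := Groth.Agent.Desc.FPSections.finitePresentation_sections hU hF hfp
  have h1 : (Fitt.ideal Γ(X, U) Γ(F, U) p).FG := K360.FittBasic.ideal_fg p
  have h2 : IsCompact (PrimeSpectrum.zeroLocus (Fitt.ideal Γ(X, U) Γ(F, U) p : Set Γ(X, U)))ᶜ :=
    (PrimeSpectrum.isCompact_isOpen_iff_ideal.2 ⟨_, h1, rfl⟩).1
  have h3 : {x : X | x ∈ U ∧ Gen F p x} =
      hU.fromSpec.base '' (PrimeSpectrum.zeroLocus (Fitt.ideal Γ(X, U) Γ(F, U) p : Set Γ(X, U)))ᶜ := by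
    ext x
    constructor
    · rintro ⟨hx, hgen⟩
      refine ⟨hU.primeIdealOf ⟨x, hx⟩, ?_, hU.fromSpec_primeIdealOf ⟨x, hx⟩⟩
      exact (gen_iff F hF hft hU hx).1 hgen
    · rintro ⟨q, hq, rfl⟩
      have hx := fromSpec_mem hU q
      refine ⟨hx, (gen_iff F hF hft hU hx).2 ?_⟩
      have h4 : hU.primeIdealOf ⟨hU.fromSpec.base q, hx⟩ = q :=
        hU.fromSpec.isOpenEmbedding.injective (hU.fromSpec_primeIdealOf ⟨_, hx⟩)
      rw [h4]
      exact hq
  rw [h3]
  exact h2.image hU.fromSpec.continuous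

include hF hft in
theorem isCompact_V (hfp : CohB1.IsFP F) {W : S.Opens} (hW : IsAffineOpen W) :
    IsCompact ((V f F p : Set S) ∩ W) := by
  have h0 : ∀ y : W, ∃ U : X.Opens, IsAffineOpen U ∧ U ≤ f ⁻¹ᵁ W ∧ y.1 ∈ f.base '' (U : Set X) := by
    intro y
    obtain ⟨x, hx⟩ := f.surjective y.1
    obtain ⟨U, hU, hxU, hUW⟩ := exists_isAffineOpen_mem_and_subset (x := x) (U := f ⁻¹ᵁ W) (by
      change f.base x ∈ W
      rw [hx]
      exact y.2)
    exact ⟨U, hU, hUW, ⟨x, hxU, hx⟩⟩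
  choose U hU hUW hyU using h0
  obtain ⟨t, ht⟩ := hW.isCompact.elim_finite_subcover (fun y : W => f.base '' (U y : Set X))
    (fun y => f.isOpenMap _ (U y).2) (fun y hy => Set.mem_iUnion.2 ⟨⟨y, hy⟩, hyU ⟨y, hy⟩⟩)
  have h1 : ((V f F p : Set S) ∩ W) = ⋃ y ∈ t, f.base '' {x : X | x ∈ U y ∧ Gen F p x} := by
    ext z
    constructor
    · rintro ⟨⟨x, hx, rfl⟩, hzW⟩
      obtain ⟨y, hy, hzy⟩ := Set.mem_iUnion₂.1 (ht hzW)
      obtain ⟨x', hx', hxx'⟩ := hzy
      obtain ⟨ξ, hξ, hgen⟩ := exists_generic f (f.base x)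
      refine Set.mem_iUnion₂.2 ⟨y, hy, ξ, ⟨?_, ?_⟩, hξ⟩
      · exact generic_mem hgen hx' (hxx'.trans hξ.symm)
      · exact generic_mem (U := ⟨_, isOpen_gen F p⟩) hgen hx hξ.symm
    · intro hz
      obtain ⟨y, hy, x, ⟨hx1, hx2⟩, rfl⟩ := Set.mem_iUnion₂.1 hz
      exact ⟨⟨x, hx2, rfl⟩, hUW y hx1⟩
  rw [h1]
  exact t.isCompact_biUnion fun y _ => (isCompact_gen hF hft hfp p (hU y)).image f.continuous

include hF hft in
theorem quasiCompact_V (hfp : CohB1.IsFP F) : QuasiCompact (V f F p).ι := by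
  rw [quasiCompact_iff_forall_isAffineOpen]
  intro W hW
  rw [(V f F p).ι.isOpenEmbedding.isInducing.isCompact_iff]
  have h1 : (V f F p).ι.base '' ((V f F p).ι ⁻¹ᵁ W : Set _) = (V f F p : Set S) ∩ W := by
    change (V f F p).ι.base '' ((V f F p).ι.base ⁻¹' (W : Set S)) = _
    rw [Set.image_preimage_eq_inter_range, Set.inter_comm]
    congr 1
    exact Scheme.Opens.range_ι _
  exact h1 ▸ isCompact_V hF hft hfp hW

include hF hft in
theorem main : ∃ Z : Over S, IsImmersion Z.hom ∧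
    Nonempty ((FlatFun.genPSp S (fun T => P f F p T)).RepresentableBy Z) ∧
    (CohB1.IsFP F → LocallyOfFinitePresentation Z.hom ∧ QuasiCompact Z.hom ∧ QuasiSeparated Z.hom) := by
  obtain ⟨Z, j, hj, hZ⟩ := exists_closed (p := p) (f := f) hF hft
  have himm : IsImmersion (j ≫ (V f F p).ι) := inferInstance
  refine ⟨Over.mk (j ≫ (V f F p).ι), himm, ?_, fun hfp => ⟨?_, ?_, ?_⟩⟩
  · have : Mono (Over.mk (j ≫ (V f F p).ι)).hom := inferInstanceAs (Mono (j ≫ (V f F p).ι))
    refine K256.GenRepr.nonempty_representableBy _ (fun T T₀ g h => stable g h) _ fun T => ?_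
    constructor
    · rintro ⟨a⟩
      have h1 := (hZ _ (a.left ≫ j)).1 ⟨_, rfl⟩
      have h2 : (a.left ≫ j) ≫ (V f F p).ι = T.hom := by
        rw [Category.assoc]
        exact Over.w a
      let k : T ⟶ Over.mk ((a.left ≫ j) ≫ (V f F p).ι) := Over.homMk (𝟙 _) (by
        rw [Category.id_comp]; exact h2)
      exact stable k h1
    · intro h
      have hr : Set.range T.hom.base ⊆ Set.range (V f F p).ι.base := by
        rw [Scheme.Opens.range_ι]
        rintro _ ⟨t, rfl⟩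
        exact mem_V_of_P hF hft T h t
      have hl : IsOpenImmersion.lift (V f F p).ι T.hom hr ≫ (V f F p).ι = T.hom :=
        IsOpenImmersion.lift_fac _ _ _
      let k : Over.mk (IsOpenImmersion.lift (V f F p).ι T.hom hr ≫ (V f F p).ι) ⟶ T :=
        Over.homMk (𝟙 _) (by rw [Category.id_comp]; exact hl.symm)
      obtain ⟨a, ha⟩ := (hZ _ (IsOpenImmersion.lift (V f F p).ι T.hom hr)).2 (stable k h)
      exact ⟨Over.homMk a (by
        change a ≫ j ≫ (V f F p).ι = T.hom
        rw [← Category.assoc, ha, hl])⟩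
  · have := lfp hF hft hfp j hZ
    exact inferInstanceAs (LocallyOfFinitePresentation (j ≫ (V f F p).ι))
  · have := quasiCompact_V (p := p) (f := f) hF hft hfp
    exact inferInstanceAs (QuasiCompact (j ≫ (V f F p).ι))
  · exact inferInstanceAs (QuasiSeparated (j ≫ (V f F p).ι))

end K256.HpRep
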