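import Groth.Agent.FlatMor.K256.ModBC
import Groth.Prelude.Def_FlatFun
import Mathlib.AlgebraicGeometry.AffineTransitionLimit
import Mathlib.CategoryTheory.Limits.Types.Filtered

/-!
# Limit preserving functors generated by a stable condition

* `isLimitPreserving_genPSp` : criterion for `AlgSp.IsLimitPreserving (FlatFun.genPSp S P)`;
* `XTD`, `XTcone`, `isLimit_XTcone` : the system `X_{T_i}` and its limit `X_T`;
* `exists_stage` : an increasing system of opens of the `X_{T_i}` whose preimages cover `X_T` is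
  everything at some stage.
-/

set_option autoImplicit false
universe u
open CategoryTheory CategoryTheory.Limits AlgebraicGeometry Opposite

namespace K256.LimPres

variable {X S : Scheme.{u}}

theorem isLimitPreserving_genPSp (P : Over S → Prop)
    (hst : ∀ ⦃T T₀ : Over S⦄ (_ : T ⟶ T₀), P T₀ → P T)
    (h : ∀ ⦃I : Type u⦄ [SmallCategory I] [IsCofiltered I] (D : I ⥤ Over S) (c : Cone D),
      IsLimit ((Over.forget S).mapCone c) → (∀ i, IsAffine (D.obj i).left) → IsAffine c.pt.left →
      P c.pt → ∃ i, P (D.obj i)) :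
    AlgSp.IsLimitPreserving (FlatFun.genPSp S P) := by
  intro I _ _ D c hc hD hT
  refine ⟨Types.FilteredColimit.isColimitOf' _ _ ?_ ?_⟩
  · intro x
    have h1 : P c.pt := (FlatFun.genPSp_nonempty_iff_of_stable P hst c.pt).1 ⟨x⟩
    obtain ⟨i, hi⟩ := h D c hc hD hT h1
    obtain ⟨y⟩ := FlatFun.genPSp_nonempty_of P hi
    have : Subsingleton ((FlatFun.genPSp S P).mapCocone c.op).pt :=
      FlatFun.genPSp_subsingleton S P (op c.pt)
    exact ⟨op i, y, Subsingleton.elim _ _⟩
  · intro i x y _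
    have : Subsingleton ((D.op ⋙ FlatFun.genPSp S P).obj i) :=
      FlatFun.genPSp_subsingleton S P _
    exact ⟨i, 𝟙 _, by rw [Subsingleton.elim x y]⟩

section Limit

variable (f : X ⟶ S) {I : Type u} [SmallCategory I] (D : I ⥤ Over S)

theorem XTmap_id (T : Over S) : PicF.XTmap f (𝟙 T) = 𝟙 (PicF.XT f T) := by
  apply pullback.hom_ext <;> simp [PicF.XTmap]

theorem XTmap_comp {T T' T'' : Over S} (g' : T'' ⟶ T') (g : T' ⟶ T) :
    PicF.XTmap f (g' ≫ g) = PicF.XTmap f g' ≫ PicF.XTmap f g := by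
  apply pullback.hom_ext <;>
    simp only [PicF.XTmap, pullback.map, Over.comp_left, pullback.lift_fst, pullback.lift_snd,
      Category.assoc, pullback.lift_snd_assoc, Category.comp_id]

theorem XTmap_XTproj {T T' : Over S} (g : T' ⟶ T) :
    PicF.XTmap f g ≫ PicF.XTproj f T = PicF.XTproj f T' ≫ g.left := by
  simp only [PicF.XTmap, PicF.XTproj, pullback.map, pullback.lift_snd]

/-- The system `X_{T_i}`. -/
noncomputable def XTD : I ⥤ Scheme.{u} where
  obj i := PicF.XT f (D.obj i)
  map a := PicF.XTmap f (D.map a)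
  map_id i := by
    rw [D.map_id]
    exact XTmap_id f _
  map_comp a b := by
    rw [D.map_comp]
    exact XTmap_comp f _ _

variable {D} in
/-- The cone with vertex `X_T`. -/
noncomputable def XTcone (c : Cone D) : Cone (XTD f D) where
  pt := PicF.XT f c.pt
  π :=
    { app i := PicF.XTmap f (c.π.app i)
      naturality i j a := by
        change 𝟙 _ ≫ PicF.XTmap f (c.π.app j) = PicF.XTmap f (c.π.app i) ≫ PicF.XTmap f (D.map a)
        rw [Category.id_comp, ← XTmap_comp, c.w] }

variable {D} in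
theorem exists_unique_lift [IsCofiltered I] (c : Cone D) (hc : IsLimit ((Over.forget S).mapCone c))
    {Z : Scheme.{u}} (a : ∀ i, Z ⟶ PicF.XT f (D.obj i))
    (ha : ∀ {i j : I} (φ : i ⟶ j), a i ≫ PicF.XTmap f (D.map φ) = a j) :
    ∃ m : Z ⟶ PicF.XT f c.pt, (∀ i, m ≫ PicF.XTmap f (c.π.app i) = a i) ∧
      ∀ m' : Z ⟶ PicF.XT f c.pt, (∀ i, m' ≫ PicF.XTmap f (c.π.app i) = a i) → m' = m := by
  obtain ⟨i₀⟩ := IsCofiltered.nonempty (C := I)
  have h1 : ∀ {i j : I} (_ : i ⟶ j),
      a i ≫ pullback.fst f (D.obj i).hom = a j ≫ pullback.fst f (D.obj j).hom := by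
    intro i j φ
    rw [← ha φ, Category.assoc, FGA.XTmap_fst]
  have h2 : ∀ (i : I), a i ≫ pullback.fst f (D.obj i).hom = a i₀ ≫ pullback.fst f (D.obj i₀).hom :=
    fun i => (h1 (IsCofiltered.minToLeft i i₀)).symm.trans (h1 (IsCofiltered.minToRight i i₀))
  let sT : Cone (D ⋙ Over.forget S) :=
    { pt := Z
      π :=
        { app i := a i ≫ PicF.XTproj f (D.obj i)
          naturality i j φ := by
            change 𝟙 _ ≫ a j ≫ PicF.XTproj f (D.obj j) = (a i ≫ PicF.XTproj f (D.obj i)) ≫ (D.map φ).left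
            rw [Category.id_comp, ← ha φ, Category.assoc, XTmap_XTproj, Category.assoc] } }
  let b : Z ⟶ c.pt.left := hc.lift sT
  have hfac : ∀ (i : I), b ≫ (c.π.app i).left = a i ≫ PicF.XTproj f (D.obj i) := fun i => hc.fac sT i
  have hw : (a i₀ ≫ pullback.fst f (D.obj i₀).hom) ≫ f = b ≫ c.pt.hom := by
    have h3 : c.pt.hom = (c.π.app i₀).left ≫ (D.obj i₀).hom := (Over.w (c.π.app i₀)).symm
    rw [h3, ← Category.assoc b, hfac, Category.assoc, Category.assoc, pullback.condition]
  have hm1 : pullback.lift (a i₀ ≫ pullback.fst f (D.obj i₀).hom) b hw ≫ pullback.fst f c.pt.hom = _ :=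
    pullback.lift_fst _ _ _
  have hm2 : pullback.lift (a i₀ ≫ pullback.fst f (D.obj i₀).hom) b hw ≫ pullback.snd f c.pt.hom = _ :=
    pullback.lift_snd _ _ _
  refine ⟨pullback.lift (a i₀ ≫ pullback.fst f (D.obj i₀).hom) b hw, fun i => ?_, fun m' hm' => ?_⟩
  · apply pullback.hom_ext
    · rw [Category.assoc, FGA.XTmap_fst]
      exact hm1.trans (h2 i).symm
    · rw [Category.assoc]
      refine (congrArg (fun t => _ ≫ t) (XTmap_XTproj f (c.π.app i))).trans ?_
      refine (Category.assoc _ _ _).symm.trans ?_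
      refine (congrArg (fun t => t ≫ (c.π.app i).left) hm2).trans ?_
      exact hfac i
  · apply pullback.hom_ext
    · rw [hm1, ← hm' i₀, Category.assoc, FGA.XTmap_fst]
    · rw [hm2]
      apply hc.hom_ext
      intro i
      refine Eq.trans ?_ (hfac i).symm
      rw [← hm' i, Category.assoc, XTmap_XTproj]
      exact Category.assoc _ _ _

variable {D} in
theorem isLimit_XTcone [IsCofiltered I] (c : Cone D) (hc : IsLimit ((Over.forget S).mapCone c)) :
    Nonempty (IsLimit (XTcone f c)) := by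
  choose m hm hm' using fun s : Cone (XTD f D) =>
    exists_unique_lift f c hc (Z := s.pt) (fun i => s.π.app i) (fun φ => s.w φ)
  exact ⟨{ lift := m, fac := hm, uniq := fun s t ht => hm' s t ht }⟩

theorem isAffineHom_XTmap {T T' : Over S} (g : T' ⟶ T) [IsAffine T.left] [IsAffine T'.left] :
    IsAffineHom (PicF.XTmap f g) := by
  have h1 : IsAffineHom g.left := inferInstance
  exact MorphismProperty.of_isPullback (Groth.Agent.Picfga.HilbPull.isPullback_XTmap f g).flip h1

theorem isAffineHom_XTD (hD : ∀ i, IsAffine (D.obj i).left) (i j : I) (a : i ⟶ j) :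
    IsAffineHom ((XTD f D).map a) := by
  have := hD i
  have := hD j
  exact isAffineHom_XTmap f (D.map a)

theorem compactSpace_XT [QuasiCompact f] (T : Over S) [CompactSpace T.left] :
    CompactSpace (PicF.XT f T) := by
  have : QuasiCompact (PicF.XTproj f T) := by
    unfold PicF.XTproj
    infer_instance
  exact QuasiCompact.compactSpace_of_compactSpace (PicF.XTproj f T)

variable {D} in
/-- Opens of the `X_{T_i}` stable under preimage which contain the images of the points of `X_T` at some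
stage. -/
theorem exists_stage [IsCofiltered I] [QuasiCompact f] (c : Cone D)
    (hc : IsLimit ((Over.forget S).mapCone c))
    (hD : ∀ i, IsAffine (D.obj i).left) (hT : IsAffine c.pt.left) (U : ∀ i, (PicF.XT f (D.obj i)).Opens)
    (hU : ∀ {i j : I} (a : i ⟶ j), PicF.XTmap f (D.map a) ⁻¹ᵁ U j ≤ U i)
    (h : ∀ x : PicF.XT f c.pt, ∃ i, (PicF.XTmap f (c.π.app i)).base x ∈ U i) : ∃ i, U i = ⊤ := by
  obtain ⟨hcX⟩ := isLimit_XTcone f c hc
  have : CompactSpace (PicF.XT f c.pt) := compactSpace_XT f c.pt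
  have haff : ∀ {i j : I} (a : i ⟶ j), IsAffineHom ((XTD f D).map a) := fun {i j} a => by
    have := hD i
    have := hD j
    exact isAffineHom_XTmap f (D.map a)
  have hcomp : ∀ i, CompactSpace ((XTD f D).obj i) := fun i => by
    have := hD i
    exact compactSpace_XT f (D.obj i)
  let W (i : I) : (PicF.XT f c.pt).Opens := PicF.XTmap f (c.π.app i) ⁻¹ᵁ U i
  have hW : ∀ {i k : I} (_ : k ⟶ i), W i ≤ W k := by
    intro i k a x hx
    refine hU a ?_
    change (PicF.XTmap f (D.map a)) ((PicF.XTmap f (c.π.app k)) x) ∈ U i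
    rw [← Scheme.Hom.comp_apply, ← XTmap_comp, c.w]
    exact hx
  have hcov : (Set.univ : Set (PicF.XT f c.pt)) ⊆ ⋃ i, (W i : Set (PicF.XT f c.pt)) := by
    intro y _
    obtain ⟨j, hj⟩ := h y
    exact Set.mem_iUnion.mpr ⟨j, hj⟩
  obtain ⟨t, ht⟩ := isCompact_univ.elim_finite_subcover (fun i => (W i : Set (PicF.XT f c.pt)))
    (fun i => (W i).isOpen) hcov
  obtain ⟨k, hk⟩ := IsCofiltered.inf_objs_exists t
  have hWk : (XTcone f c).π.app k ⁻¹ᵁ U k = ⊤ := by
    rw [eq_top_iff]
    intro y _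
    have := ht (Set.mem_univ y)
    obtain ⟨i, hi, hy⟩ := Set.mem_iUnion₂.1 this
    obtain ⟨a⟩ := hk hi
    exact hW a hy
  obtain ⟨j, a, ha⟩ := exists_map_eq_top (XTD f D) (XTcone f c) hcX (U k) hWk
  exact ⟨j, top_le_iff.mp (ha.ge.trans (hU a))⟩

end Limit

end K256.LimPres
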