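import Groth.Agent.Flat2F.BasAlg
import Mathlib.Algebra.Module.FinitePresentation
import Mathlib.RingTheory.OrzechProperty

/-!
# The ideal of coefficients of the relations between generators of a module
-/

set_option autoImplicit false

namespace K256.RelIdeal

open Groth.Agent.Flat2F.BasAlg TensorProduct

section

variable {R : Type*} [CommRing R] {M : Type*} [AddCommGroup M] [Module R M] {p : ℕ}

/-- The ideal generated by the coefficients of the linear relations between the `s i`. -/
def relIdeal (R : Type*) [CommRing R] {M : Type*} [AddCommGroup M] [Module R M] {p : ℕ} (s : Fin p → M) : Ideal R :=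
  Ideal.span {b | ∃ c : Fin p → R, ∑ i, c i • s i = 0 ∧ ∃ i, c i = b}

theorem mem_relIdeal {s : Fin p → M} {c : Fin p → R} (h : ∑ i, c i • s i = 0) (i : Fin p) :
    c i ∈ relIdeal R s := Ideal.subset_span ⟨c, h, i, rfl⟩

/-- for a finitely presented module the ideal is finitely generated -/
theorem relIdeal_fg [Module.FinitePresentation R M] (s : Fin p → M) (hs : Submodule.span R (Set.range s) = ⊤) :
    (relIdeal R s).FG := by
  classical
  let l : (Fin p → R) →ₗ[R] M := Fintype.linearCombination R s
  have hl : Function.Surjective l := by
    rw [← LinearMap.range_eq_top, Fintype.range_linearCombination, hs]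
  obtain ⟨T, hT⟩ := Module.FinitePresentation.fg_ker l hl
  refine ⟨T.biUnion fun c => Finset.univ.image fun i => c i, le_antisymm ?_ ?_⟩
  · rw [Ideal.span_le]
    intro b hb
    simp only [Finset.coe_biUnion, Finset.mem_coe, Set.mem_iUnion, Finset.coe_image, Set.mem_image] at hb
    obtain ⟨c, hc, i, -, rfl⟩ := hb
    have h1 : c ∈ LinearMap.ker l := by
      rw [← hT]
      exact Submodule.subset_span hc
    exact mem_relIdeal (c := c) (by simpa [l, Fintype.linearCombination_apply] using h1) i
  · rw [relIdeal, Ideal.span_le]
    rintro _ ⟨c, hc, i, rfl⟩
    have h1 : c ∈ Submodule.span R (T : Set (Fin p → R)) := by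
      rw [hT, LinearMap.mem_ker, Fintype.linearCombination_apply]
      exact hc
    induction h1 using Submodule.span_induction with
    | mem c hc' =>
      refine Ideal.subset_span ?_
      simp only [Finset.coe_biUnion, Finset.mem_coe, Set.mem_iUnion, Finset.coe_image, Set.mem_image]
      exact ⟨c, hc', i, by simp, rfl⟩
    | zero => exact zero_mem _
    | add x y hx' hy' hx hy =>
      have hx0 : ∑ i, x i • s i = 0 := by
        have : x ∈ LinearMap.ker l := by rw [← hT]; exact hx'
        simpa [l, Fintype.linearCombination_apply] using this
      have hy0 : ∑ i, y i • s i = 0 := by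
        have : y ∈ LinearMap.ker l := by rw [← hT]; exact hy'
        simpa [l, Fintype.linearCombination_apply] using this
      exact add_mem (hx hx0) (hy hy0)
    | smul a x hx' hx =>
      have hx0 : ∑ i, x i • s i = 0 := by
        have : x ∈ LinearMap.ker l := by rw [← hT]; exact hx'
        simpa [l, Fintype.linearCombination_apply] using this
      exact Ideal.mul_mem_left _ _ (hx hx0)

/-- generators as many as the rank form a basis -/
theorem isBas_of_span {v w : Fin p → M} (hw : IsBas R w) (hv : Submodule.span R (Set.range v) = ⊤) :
    IsBas R v := by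
  let lw : (Fin p → R) ≃ₗ[R] M := LinearEquiv.ofBijective (Fintype.linearCombination R w) hw
  let lv : (Fin p → R) →ₗ[R] M := Fintype.linearCombination R v
  have hl : Function.Surjective lv := by
    rw [← LinearMap.range_eq_top, Fintype.range_linearCombination, hv]
  have h1 : Function.Surjective (lw.symm.toLinearMap ∘ₗ lv) := lw.symm.surjective.comp hl
  have h2 : Function.Injective (lw.symm.toLinearMap ∘ₗ lv) :=
    OrzechProperty.injective_of_surjective_endomorphism _ h1
  have h3 : Function.Injective lv := by
    rw [LinearMap.coe_comp] at h2
    exact h2.of_comp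
  exact ⟨h3, hl⟩

end

section

variable {R R' : Type*} [CommRing R] [CommRing R'] [Algebra R R'] {M M' : Type*} [AddCommGroup M] [Module R M]
  [AddCommGroup M'] [Module R' M'] [Module R M'] [IsScalarTower R R' M'] {p : ℕ}

theorem span_baseChange {l : M →ₗ[R] M'} (hl : IsBaseChange R' l) (s : Fin p → M)
    (hs : Submodule.span R (Set.range s) = ⊤) :
    Submodule.span R' (Set.range fun i => l (s i)) = ⊤ := by
  rw [eq_top_iff]
  intro m hm0
  clear hm0
  induction m using hl.inductionOn with
  | zero => exact zero_mem _
  | tmul m =>
    have hm : m ∈ Submodule.span R (Set.range s) := by rw [hs]; trivial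
    induction hm using Submodule.span_induction with
    | mem m hm =>
      obtain ⟨i, rfl⟩ := hm
      exact Submodule.subset_span ⟨i, rfl⟩
    | zero => rw [map_zero]; exact zero_mem _
    | add x y _ _ hx hy => rw [map_add]; exact add_mem hx hy
    | smul a x _ hx => rw [map_smul, ← algebraMap_smul R']; exact Submodule.smul_mem _ _ hx
  | smul a x hx => exact Submodule.smul_mem _ _ hx
  | add x y hx hy => exact add_mem hx hy

/-- After a base change the generators form a basis iff the coefficients of the relations become zero. -/
theorem isBas_iff {l : M →ₗ[R] M'} (hl : IsBaseChange R' l) (s : Fin p → M)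
    (hs : Submodule.span R (Set.range s) = ⊤) :
    IsBas R' (fun i => l (s i)) ↔ ∀ b ∈ relIdeal R s, algebraMap R R' b = 0 := by
  constructor
  · intro h
    have h1 : relIdeal R s ≤ RingHom.ker (algebraMap R R') := by
      rw [relIdeal, Ideal.span_le]
      rintro _ ⟨c, hc, i, rfl⟩
      have h2 : ∑ i, algebraMap R R' (c i) • l (s i) = 0 := by
        simp only [algebraMap_smul, ← map_smul, ← map_sum]
        rw [hc, map_zero]
      have h3 : (fun i => algebraMap R R' (c i)) = 0 := by
        apply h.1
        simpa using h2
      exact congrFun h3 i
    exact fun b hb => h1 hb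
  · intro h
    refine ⟨?_, ?_⟩
    · -- the map `M → R' ^ p`
      let ls : (Fin p → R) →ₗ[R] M := Fintype.linearCombination R s
      have hls : Function.Surjective ls := by
        rw [← LinearMap.range_eq_top, Fintype.range_linearCombination, hs]
      let f : (Fin p → R) →ₗ[R] (Fin p → R') := LinearMap.pi fun i => (Algebra.linearMap R R') ∘ₗ LinearMap.proj i
      have hf : LinearMap.ker ls ≤ LinearMap.ker f := by
        intro c hc
        rw [LinearMap.mem_ker] at hc ⊢
        ext i
        exact h _ (mem_relIdeal (by simpa [ls, Fintype.linearCombination_apply] using hc) i)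
      let e : ((Fin p → R) ⧸ LinearMap.ker ls) ≃ₗ[R] M := ls.quotKerEquivOfSurjective hls
      let g : M →ₗ[R] (Fin p → R') := (LinearMap.ker ls).liftQ f hf ∘ₗ e.symm.toLinearMap
      have hg : ∀ c : Fin p → R, g (ls c) = f c := by
        intro c
        have : e.symm (ls c) = (LinearMap.ker ls).mkQ c := by
          rw [LinearEquiv.symm_apply_eq]
          rfl
        change (LinearMap.ker ls).liftQ f hf (e.symm (ls c)) = f c
        rw [this]
        rfl
      let G : M' →ₗ[R'] (Fin p → R') := hl.lift g
      have hG : ∀ i, G (l (s i)) = Pi.single i 1 := by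
        intro i
        rw [hl.lift_eq]
        have : s i = ls (Pi.single i 1) := by
          simp [ls, Fintype.linearCombination_apply, Pi.single_apply]
        rw [this, hg]
        ext j
        simp [f, Pi.single_apply]
      have h4 : Function.LeftInverse G (fun c : Fin p → R' => ∑ i, c i • l (s i)) := by
        intro c
        change G (∑ i, c i • l (s i)) = c
        rw [map_sum]
        simp only [map_smul, hG]
        ext j
        simp [Finset.sum_apply, Pi.single_apply]
      exact h4.injective
    · have h5 := span_baseChange hl s hs
      rw [← Fintype.range_linearCombination, LinearMap.range_eq_top] at h5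
      exact h5

end

end K256.RelIdeal
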