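import Groth.Agent.FlatMor.K256.GenSheaf
import Groth.Agent.FlatMor.K256.GenRepr
import Groth.Agent.FlatMor.K256.LimPres

/-!
# Sheaf and limit properties of `FlatFun.genPSp` from representability
-/

set_option autoImplicit false
universe u
open CategoryTheory CategoryTheory.Limits AlgebraicGeometry Opposite

namespace K256.ReprSheaf

variable {S : Scheme.{u}} (P : Over S → Prop) (hst : ∀ ⦃T T₀ : Over S⦄ (_ : T ⟶ T₀), P T₀ → P T)
  (Z : Over S) (hZ : ∀ T : Over S, Nonempty (T ⟶ Z) ↔ P T)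

include hst hZ

/-- A property represented by a monomorphism `Z ⟶ S` defines a sheaf for the fpqc topology. -/
theorem isSheaf [Mono Z.hom] : Presheaf.IsSheaf (QuotSh.J Scheme.fpqcPrecoverage S) (FlatFun.genPSp S P) := by
  refine K256.GenSheaf.isSheaf_genPSp P hst fun T R hR h => ?_
  have h1 : ∀ ⦃Y : Scheme.{u}⦄ (g : Y ⟶ T.left), R g → ∃ a : Y ⟶ Z.left, a ≫ Z.hom = g ≫ T.hom := by
    intro Y g hg
    obtain ⟨a⟩ := (hZ _).2 (h g hg)
    exact ⟨a.left, Over.w a⟩
  choose a ha using h1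
  have hgen : Sieve.generate R ∈ Scheme.fpqcTopology T.left :=
    Precoverage.generate_mem_toGrothendieck hR
  have hsh : ∀ W : Scheme.{u}, Presieve.IsSheafFor (yoneda.obj W) R := fun W =>
    Presieve.isSheafFor_iff_generate (R := R) |>.2
      (GrothendieckTopology.Subcanonical.isSheaf_of_isRepresentable (J := Scheme.fpqcTopology) (yoneda.obj W) _ hgen)
  let x : Presieve.FamilyOfElements (yoneda.obj Z.left) R := fun Y g hg => a g hg
  have hx : x.Compatible := by
    intro Y₁ Y₂ W k₁ k₂ g₁ g₂ hg₁ hg₂ hk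
    change k₁ ≫ a g₁ hg₁ = k₂ ≫ a g₂ hg₂
    rw [← cancel_mono Z.hom, Category.assoc, Category.assoc, ha, ha, ← Category.assoc, ← Category.assoc, hk]
  obtain ⟨b, hb, -⟩ := hsh Z.left x hx
  have hb' : ∀ ⦃Y : Scheme.{u}⦄ (g : Y ⟶ T.left) (hg : R g), g ≫ b = a g hg := fun Y g hg => hb g hg
  refine (hZ T).1 ⟨Over.homMk b ?_⟩
  refine (hsh S).isSeparatedFor.ext (t₁ := b ≫ Z.hom) (t₂ := T.hom) ?_
  intro Y g hg
  change g ≫ b ≫ Z.hom = g ≫ T.hom
  rw [← Category.assoc, hb' g hg, ha]

/-- A property represented by a morphism `Z ⟶ S` locally of finite presentation is limit preserving. -/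
theorem isLimitPreserving [LocallyOfFinitePresentation Z.hom] :
    AlgSp.IsLimitPreserving (FlatFun.genPSp S P) := by
  refine K256.LimPres.isLimitPreserving_genPSp P hst fun I _ _ D c hc hD hT hP => ?_
  obtain ⟨a⟩ := (hZ _).2 hP
  let D' : I ⥤ Scheme.{u} := D ⋙ Over.forget S
  let t : D' ⟶ (Functor.const I).obj S := { app := fun i => (D.obj i).hom, naturality := fun i j g => by simp [D'] }
  have hD' : ∀ i, IsAffine (D'.obj i) := hD
  have haff : ∀ {i j : I} (g : i ⟶ j), IsAffineHom (D'.map g) := fun g => inferInstance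
  obtain ⟨i, g, -, hg⟩ := Scheme.exists_π_app_comp_eq_of_locallyOfFinitePresentation D' t Z.hom _ hc a.left (by
    ext i
    simp only [t, NatTrans.comp_app, Functor.mapCone_π_app, Functor.const_map_app]
    exact (Over.w (c.π.app i)).trans (Over.w a).symm)
  exact ⟨i, (hZ _).1 ⟨Over.homMk g hg⟩⟩

end K256.ReprSheaf
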