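import Groth.Agent.FlatMor.K256.RelIdeal
import Groth.Agent.Flat2F.SecBasis2
import Groth.Agent.Divis.StalkMod
import Groth.Prelude.Def_FlatFun

/-!
# When do the pullbacks of generating sections form a basis

`M` quasi-coherent on `X`, `U` affine open, `s : Fin p → Γ(M, U)` generating, `g : Y ⟶ X`.
-/

set_option autoImplicit false
set_option linter.style.haveILetI false
universe u
open CategoryTheory CategoryTheory.Limits AlgebraicGeometry Opposite TopologicalSpace

namespace K256.StalkBas

open Groth.Agent.Flat2F.BasAlg Groth.Agent.Flat2F.SecBasis K256.RelIdeal Groth.Agent.Fdesc.PullbackStalk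

variable {X Y : Scheme.{u}}

/-- The stalk of a pullback as a base change of the sections over an affine open. -/
theorem pull_elim (g : Y ⟶ X) (M : X.Modules) (hM : Coh.IsQCoh M) {U : X.Opens} (hU : IsAffineOpen U)
    (y : Y) (hy : g.base y ∈ U) {P : Prop}
    (H : ∀ (_ : Algebra Γ(X, U) (Y.presheaf.stalk y))
      (_ : Module Γ(X, U) (((Scheme.Modules.pullback g).obj M).presheaf.stalk y))
      (_ : IsScalarTower Γ(X, U) (Y.presheaf.stalk y) (((Scheme.Modules.pullback g).obj M).presheaf.stalk y))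
      (l : Γ(M, U) →ₗ[Γ(X, U)] (((Scheme.Modules.pullback g).obj M).presheaf.stalk y))
      (_ : ∀ t, l t = ((Scheme.Modules.pullback g).obj M).presheaf.germ (g ⁻¹ᵁ U) y hy (pbs g M t))
      (_ : ∀ r, algebraMap Γ(X, U) (Y.presheaf.stalk y) r = Y.presheaf.germ (g ⁻¹ᵁ U) y hy (g.app U r))
      (_ : IsBaseChange (Y.presheaf.stalk y) l), P) : P := by
  refine Groth.Agent.Divis.StalkMod.stalk_elim M hM hU (g.base y) hy ?_
  intro a1 a2 a3 a4 l hl hr a5
  letI := stalkAlg g y
  letI := FlatMod.moduleStalkOver g ((Scheme.Modules.pullback g).obj M) y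
  haveI := isScalarTower g ((Scheme.Modules.pullback g).obj M) y
  letI : Algebra Γ(X, U) (Y.presheaf.stalk y) :=
    ((algebraMap (X.presheaf.stalk (g.base y)) (Y.presheaf.stalk y)).comp
      (algebraMap Γ(X, U) (X.presheaf.stalk (g.base y)))).toAlgebra
  letI : Module Γ(X, U) (((Scheme.Modules.pullback g).obj M).presheaf.stalk y) :=
    Module.compHom _ (algebraMap Γ(X, U) (X.presheaf.stalk (g.base y)))
  haveI : IsScalarTower Γ(X, U) (X.presheaf.stalk (g.base y)) (Y.presheaf.stalk y) :=
    IsScalarTower.of_algebraMap_eq fun _ => rfl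
  haveI : IsScalarTower Γ(X, U) (X.presheaf.stalk (g.base y))
      (((Scheme.Modules.pullback g).obj M).presheaf.stalk y) :=
    IsScalarTower.of_algebraMap_smul fun _ _ => rfl
  haveI : IsScalarTower Γ(X, U) (Y.presheaf.stalk y)
      (((Scheme.Modules.pullback g).obj M).presheaf.stalk y) :=
    IsScalarTower.of_algebraMap_smul fun r m => by
      change (algebraMap (X.presheaf.stalk (g.base y)) (Y.presheaf.stalk y)
        (algebraMap Γ(X, U) (X.presheaf.stalk (g.base y)) r)) • m =
          (algebraMap Γ(X, U) (X.presheaf.stalk (g.base y)) r) • m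
      exact algebraMap_smul _ _ _
  have hb : IsBaseChange (X.presheaf.stalk (g.base y)) l :=
    IsLocalizedModule.isBaseChange (hU.primeIdealOf ⟨g.base y, hy⟩).asIdeal.primeCompl _ l
  refine H inferInstance inferInstance inferInstance
    (((can g M y).restrictScalars Γ(X, U)).comp l) ?_ ?_ (hb.comp (isBaseChange_can g M y))
  · intro t
    change canAdd g M y (l t) = _
    rw [hl, pbs_germ]
  · intro r
    change g.stalkMap y (algebraMap Γ(X, U) (X.presheaf.stalk (g.base y)) r) = _
    rw [hr]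
    exact Scheme.Hom.germ_stalkMap_apply g U y hy r

variable (g : Y ⟶ X) (M : X.Modules) (hM : Coh.IsQCoh M) {U : X.Opens} (hU : IsAffineOpen U) {p : ℕ}
  {s : Fin p → Γ(M, U)} (hs : Submodule.span Γ(X, U) (Set.range s) = ⊤)

include hM hU hs

theorem basAt_pullback_iff (y : Y) (hy : g.base y ∈ U) :
    BasAt ((Scheme.Modules.pullback g).obj M) (fun i => pbs g M (s i)) y hy ↔
      ∀ b ∈ relIdeal Γ(X, U) s, Y.presheaf.germ (g ⁻¹ᵁ U) y hy (g.app U b) = 0 := by
  refine pull_elim g M hM hU y hy ?_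
  intro _ _ _ l hl hr hb
  have h1 := isBas_iff hb s hs
  simp only [hl, hr] at h1
  exact h1

/-- the germs of the pulled back sections generate -/
theorem span_germ_pullback (y : Y) (hy : g.base y ∈ U) :
    Submodule.span (Y.presheaf.stalk y) (Set.range fun i =>
      ((Scheme.Modules.pullback g).obj M).presheaf.germ (g ⁻¹ᵁ U) y hy (pbs g M (s i))) = ⊤ := by
  refine pull_elim g M hM hU y hy ?_
  intro _ _ _ l hl hr hb
  have h1 := span_baseChange hb s hs
  simp only [hl] at h1
  exact h1

theorem basOn_pullback_iff :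
    BasOn ((Scheme.Modules.pullback g).obj M) (g ⁻¹ᵁ U) (fun i => pbs g M (s i)) ↔
      ∀ b ∈ relIdeal Γ(X, U) s, g.app U b = 0 := by
  rw [basOn_iff]
  constructor
  · intro h b hb
    refine TopCat.Presheaf.section_ext Y.sheaf (g ⁻¹ᵁ U) _ _ fun y hy => ?_
    refine Eq.trans ?_ (map_zero (Y.presheaf.germ (g ⁻¹ᵁ U) y hy).hom).symm
    exact (basAt_pullback_iff g M hM hU hs y hy).1 (h y hy) b hb
  · intro h y hy
    refine (basAt_pullback_iff g M hM hU hs y hy).2 fun b hb => ?_
    rw [h b hb, map_zero]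

theorem basAt_of_isFreeOfRankNear (y : Y) (hy : g.base y ∈ U)
    (h : FlatFun.IsFreeOfRankNear ((Scheme.Modules.pullback g).obj M) p y) :
    BasAt ((Scheme.Modules.pullback g).obj M) (fun i => pbs g M (s i)) y hy := by
  obtain ⟨V, hyV, hV⟩ := h
  rw [nonempty_restrict_iso_iff] at hV
  obtain ⟨t, ht⟩ := hV
  exact isBas_of_span (ht.basAt y hyV) (span_germ_pullback g M hM hU hs y hy)

omit hM hU hs in
theorem isFreeOfRankNear_of_basOn {N : Y.Modules} {V : Y.Opens} {t : Fin p → Γ(N, V)} (h : BasOn N V t)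
    {y : Y} (hy : y ∈ V) : FlatFun.IsFreeOfRankNear N p y :=
  ⟨V, hy, (nonempty_restrict_iso_iff N V).2 ⟨t, h⟩⟩

end K256.StalkBas
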