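import Groth.Agent.FlatMor.K256.GenRepr
import Mathlib.AlgebraicGeometry.Morphisms.Flat
import Mathlib.AlgebraicGeometry.Morphisms.ClosedImmersion
import Mathlib.AlgebraicGeometry.Morphisms.FinitePresentation
import Mathlib.RingTheory.FinitePresentation
import Mathlib.RingTheory.IsTensorProduct

/-!
# The Weil restriction of a closed subscheme along a projective ring map
-/

set_option autoImplicit false
universe u
open CategoryTheory CategoryTheory.Limits AlgebraicGeometry Opposite TensorProduct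

namespace K256.WeilClosed

section rm

variable {R : Type u} [CommRing R] {W W' : Scheme.{u}}

theorem le_pre_top {X Y : Scheme.{u}} (f : X ⟶ Y) (U : X.Opens) : U ≤ f ⁻¹ᵁ ⊤ := fun _ _ => trivial

/-- the functions over `U` given by a morphism to an affine scheme -/
noncomputable def rm (f : W ⟶ Spec (CommRingCat.of R)) (U : W.Opens) : CommRingCat.of R ⟶ Γ(W, U) :=
  (Scheme.ΓSpecIso (CommRingCat.of R)).inv ≫ f.appLE ⊤ U (le_pre_top f U)

theorem rm_comp_left (h : W' ⟶ W) (f : W ⟶ Spec (CommRingCat.of R)) (U : W.Opens) (U' : W'.Opens)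
    (e : U' ≤ h ⁻¹ᵁ U) : rm (h ≫ f) U' = rm f U ≫ h.appLE U U' e := by
  rw [rm, rm, Category.assoc, Scheme.Hom.appLE_comp_appLE]

theorem rm_res (f : W ⟶ Spec (CommRingCat.of R)) {U V : W.Opens} (e : V ≤ U) :
    rm f U ≫ W.presheaf.map (homOfLE e).op = rm f V := by
  rw [rm, rm, Category.assoc, Scheme.Hom.appLE_map]

theorem rm_comp_right {R' : Type u} [CommRing R'] (ψ : CommRingCat.of R ⟶ CommRingCat.of R')
    (g : W ⟶ Spec (CommRingCat.of R')) (U : W.Opens) :
    rm (g ≫ Spec.map ψ) U = ψ ≫ rm g U := by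
  rw [rm, rm, ← Scheme.Hom.appLE_comp_appLE g (Spec.map ψ) ⊤ ⊤ U (le_pre_top _ _) (le_pre_top _ _),
    ← Category.assoc, ← Category.assoc]
  congr 1
  have h2 : (Spec.map ψ).appLE ⊤ ⊤ (le_pre_top _ _) = (Spec.map ψ).appTop := Scheme.Hom.appLE_eq_app _
  rw [h2, Iso.inv_comp_eq, ← Category.assoc, Iso.eq_comp_inv, Scheme.ΓSpecIso_naturality]

theorem factor_iff (I : Ideal R) (f : W ⟶ Spec (CommRingCat.of R)) :
    (∃ l : W ⟶ Spec (CommRingCat.of (R ⧸ I)), l ≫ Spec.map (CommRingCat.ofHom (Ideal.Quotient.mk I)) = f) ↔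
      ∀ a ∈ I, (rm f ⊤).hom a = 0 := by
  constructor
  · rintro ⟨l, rfl⟩ a ha
    rw [rm_comp_right, CommRingCat.hom_comp, RingHom.comp_apply]
    have : (CommRingCat.ofHom (Ideal.Quotient.mk I)).hom a = 0 := Ideal.Quotient.eq_zero_iff_mem.2 ha
    rw [this, map_zero]
  · intro h
    let φ : R ⧸ I →+* Γ(W, ⊤) := Ideal.Quotient.lift I (rm f ⊤).hom h
    refine ⟨W.toSpecΓ ≫ Spec.map (CommRingCat.ofHom φ), ?_⟩
    rw [Category.assoc, ← Spec.map_comp]
    have h1 : CommRingCat.ofHom (Ideal.Quotient.mk I) ≫ CommRingCat.ofHom φ = rm f ⊤ := by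
      ext a
      rfl
    rw [h1, rm]
    have h2 : f.appLE ⊤ ⊤ (le_pre_top _ _) = f.appTop := Scheme.Hom.appLE_eq_app _
    rw [h2, Spec.map_comp, ← Category.assoc, ← Scheme.toSpecΓ_naturality, Category.assoc,
      ← SpecMap_ΓSpecIso_hom, ← Spec.map_comp]
    simp

/-- vanishing of a function is local. -/
theorem rm_eq_zero_iff (f : W ⟶ Spec (CommRingCat.of R)) {ι : Type*} (V : ι → W.Opens) (hV : ⨆ i, V i = ⊤)
    (a : R) : (rm f ⊤).hom a = 0 ↔ ∀ i, (rm f (V i)).hom a = 0 := by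
  constructor
  · intro h i
    rw [← rm_res f (le_top : V i ≤ ⊤), CommRingCat.hom_comp, RingHom.comp_apply, h, map_zero]
  · intro h
    refine TopCat.Sheaf.eq_of_locally_eq' W.sheaf V ⊤ (fun i => homOfLE le_top) hV.ge _ _ fun i => ?_
    refine Eq.trans ?_ (map_zero (W.presheaf.map (homOfLE (le_top : V i ≤ ⊤)).op).hom).symm
    refine Eq.trans ?_ (h i)
    rw [← rm_res f (le_top : V i ≤ ⊤), CommRingCat.hom_comp, RingHom.comp_apply]
    rfl

end rm

section crit

theorem one_tmul_eq_zero_iff {A : Type*} [CommRing A] {M : Type*} [AddCommGroup M] [Module A M]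
    [Module.Projective A M] (C : Type*) [CommRing C] [Algebra A C] (b : M) :
    (1 : C) ⊗ₜ[A] b = 0 ↔ ∀ φ : M →ₗ[A] A, algebraMap A C (φ b) = 0 := by
  constructor
  · intro h φ
    have h1 := congrArg (TensorProduct.rid A C) (congrArg (φ.lTensor C) h)
    simpa [Algebra.algebraMap_eq_smul_one] using h1
  · intro h
    obtain ⟨s, hs⟩ := Module.projective_def'.1 (inferInstance : Module.Projective A M)
    have h1 : b = (s b).sum fun m c => c • m := by
      conv_lhs => rw [← LinearMap.id_apply (R := A) b, ← hs]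
      rfl
    rw [h1, Finsupp.sum, TensorProduct.tmul_sum]
    refine Finset.sum_eq_zero fun m _ => ?_
    have h2 := h ((Finsupp.lapply m).comp s)
    rw [TensorProduct.tmul_smul, TensorProduct.smul_tmul', ← Algebra.algebraMap_eq_smul_one]
    change algebraMap A C ((s b) m) = 0 at h2
    rw [h2, TensorProduct.zero_tmul]

theorem pushout_eq_zero_iff {A B C D : Type u} [CommRing A] [CommRing B] [CommRing C] [CommRing D]
    [Algebra A B] [Module.Projective A B] (c : CommRingCat.of A ⟶ CommRingCat.of C)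
    (d : CommRingCat.of B ⟶ CommRingCat.of D) (e : CommRingCat.of C ⟶ CommRingCat.of D)
    (H : IsPushout (CommRingCat.ofHom (algebraMap A B)) c d e) (b : B) :
    d.hom b = 0 ↔ ∀ φ : B →ₗ[A] A, c.hom (φ b) = 0 := by
  let := c.hom.toAlgebra
  let := d.hom.toAlgebra
  let := e.hom.toAlgebra
  let := (d.hom.comp (algebraMap A B)).toAlgebra
  have i1 : IsScalarTower A B D := IsScalarTower.of_algebraMap_eq fun _ => rfl
  have i2 : IsScalarTower A C D := IsScalarTower.of_algebraMap_eq fun x => by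
    have := congrArg (fun t => t.hom x) H.w
    exact this
  have H' : IsPushout (CommRingCat.ofHom (algebraMap A C)) (CommRingCat.ofHom (algebraMap A B))
      (CommRingCat.ofHom (algebraMap C D)) (CommRingCat.ofHom (algebraMap B D)) := H.flip
  have h3 : Algebra.IsPushout A C B D := CommRingCat.isPushout_iff_isPushout.1 H'
  have h4 : d.hom b = h3.out.equiv ((1 : C) ⊗ₜ[A] b) := by
    rw [IsBaseChange.equiv_tmul, one_smul]
    rfl
  rw [h4, LinearEquiv.map_eq_zero_iff, one_tmul_eq_zero_iff]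
  rfl

end crit

section main

variable {A B : Type u} [CommRing A] [CommRing B] [Algebra A B]

/-- the ideal generated by the values of linear forms on an ideal of `B` -/
def coeffIdeal (A : Type u) {B : Type u} [CommRing A] [CommRing B] [Algebra A B] (J : Ideal B) : Ideal A :=
  Ideal.span {a | ∃ φ : B →ₗ[A] A, ∃ b ∈ J, φ b = a}

theorem isPushout_rm {T W : Scheme.{u}} {h : T ⟶ Spec (CommRingCat.of A)} {g : W ⟶ Spec (CommRingCat.of B)}
    {q : W ⟶ T} (H : IsPullback g q (Spec.map (CommRingCat.ofHom (algebraMap A B))) h) (V : T.Opens)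
    (hV : IsAffineOpen V) :
    IsPushout (CommRingCat.ofHom (algebraMap A B)) (rm h V) (rm g (q ⁻¹ᵁ V)) (q.app V) := by
  have h1 := (isIso_pushoutSection_iff H _ _ _).mp
    (isIso_pushoutSection_of_isAffineOpen H (US := ⊤) (UT := V) (UX := ⊤)
    (UY := q ⁻¹ᵁ V) (le_pre_top _ _) (le_pre_top _ _) (by simp) (isAffineOpen_top _) hV (isAffineOpen_top _))
  refine IsPushout.of_iso h1 (Scheme.ΓSpecIso (CommRingCat.of A)) (Scheme.ΓSpecIso (CommRingCat.of B))
    (Iso.refl _) (Iso.refl _) ?_ ?_ ?_ ?_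
  · have h2 : (Spec.map (CommRingCat.ofHom (algebraMap A B))).appLE ⊤ ⊤ (le_pre_top _ _) =
        (Spec.map (CommRingCat.ofHom (algebraMap A B))).appTop := Scheme.Hom.appLE_eq_app _
    refine (congrArg (fun t => t ≫ (Scheme.ΓSpecIso (CommRingCat.of B)).hom) h2).trans ?_
    exact Scheme.ΓSpecIso_naturality _
  · rw [Iso.refl_hom, Category.comp_id, rm, Iso.hom_inv_id_assoc]
  · rw [Iso.refl_hom, Category.comp_id, rm, Iso.hom_inv_id_assoc]
  · rw [Iso.refl_hom, Iso.refl_hom, Category.comp_id, Category.id_comp, Scheme.Hom.appLE_eq_app]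

theorem key [Module.Projective A B] (J : Ideal B) {T W : Scheme.{u}} {h : T ⟶ Spec (CommRingCat.of A)}
    {g : W ⟶ Spec (CommRingCat.of B)} {q : W ⟶ T}
    (H : IsPullback g q (Spec.map (CommRingCat.ofHom (algebraMap A B))) h) :
    (∀ b ∈ J, (rm g ⊤).hom b = 0) ↔ ∀ a ∈ coeffIdeal A J, (rm h ⊤).hom a = 0 := by
  have hc1 : ⨆ V : T.affineOpens, (V : T.Opens) = ⊤ := iSup_affineOpens_eq_top T
  have hc2 : ⨆ V : T.affineOpens, (q ⁻¹ᵁ (V : T.Opens)) = ⊤ := by
    rw [← Scheme.Hom.preimage_iSup, hc1]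
    rfl
  have h1 : ∀ (V : T.affineOpens) (b : B), (rm g (q ⁻¹ᵁ (V : T.Opens))).hom b = 0 ↔
      ∀ φ : B →ₗ[A] A, (rm h (V : T.Opens)).hom (φ b) = 0 := fun V b =>
    pushout_eq_zero_iff (C := Γ(T, V)) (D := Γ(W, q ⁻¹ᵁ (V : T.Opens))) _ _ _ (isPushout_rm H V V.2) b
  have h2 : (∀ a ∈ coeffIdeal A J, (rm h ⊤).hom a = 0) ↔
      ∀ (φ : B →ₗ[A] A) (b : B), b ∈ J → (rm h ⊤).hom (φ b) = 0 := by
    constructor
    · intro h φ b hb
      exact h _ (Ideal.subset_span ⟨φ, b, hb, rfl⟩)
    · intro h' a ha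
      change a ∈ RingHom.ker (rm h ⊤).hom
      refine (Ideal.span_le.2 ?_ : coeffIdeal A J ≤ _) ha
      rintro _ ⟨φ, b, hb, rfl⟩
      exact h' φ b hb
  rw [h2]
  constructor
  · intro h3 φ b hb
    rw [rm_eq_zero_iff h _ hc1]
    intro V
    exact (h1 V b).1 ((rm_eq_zero_iff g _ hc2 b).1 (h3 b hb) V) φ
  · intro h3 b hb
    rw [rm_eq_zero_iff g _ hc2]
    intro V
    exact (h1 V b).2 fun φ => (rm_eq_zero_iff h _ hc1 _).1 (h3 φ b hb) V

theorem isIso_snd_iff {X Y W : Scheme.{u}} (i : Y ⟶ X) [Mono i] (f : W ⟶ X) :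
    IsIso (pullback.snd i f) ↔ ∃ l : W ⟶ Y, l ≫ i = f := by
  constructor
  · intro h
    refine ⟨inv (pullback.snd i f) ≫ pullback.fst i f, ?_⟩
    rw [Category.assoc, pullback.condition, IsIso.inv_hom_id_assoc]
  · rintro ⟨l, hl⟩
    let s : W ⟶ pullback i f := pullback.lift l (𝟙 _) (by rw [hl, Category.id_comp])
    have : s ≫ pullback.snd i f = 𝟙 _ := pullback.lift_snd _ _ _
    have : IsSplitEpi (pullback.snd i f) := ⟨⟨⟨s, this⟩⟩⟩
    exact isIso_of_mono_of_isSplitEpi _

theorem coeffIdeal_fg [Module.Projective A B] (J : Ideal B) (hJ : J.FG) : (coeffIdeal A J).FG := by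
  classical
  obtain ⟨s, hs⟩ := hJ
  obtain ⟨σ, hσ⟩ := Module.projective_def'.1 (inferInstance : Module.Projective A B)
  refine ⟨s.biUnion fun b => (σ b).support.image fun m => (σ b) m, le_antisymm ?_ ?_⟩
  · rw [Ideal.span_le]
    intro a ha
    simp only [Finset.coe_biUnion, Finset.mem_coe, Set.mem_iUnion, Finset.coe_image, Set.mem_image] at ha
    obtain ⟨b, hb, m, hm, rfl⟩ := ha
    refine Ideal.subset_span ⟨(Finsupp.lapply m).comp σ, b, ?_, rfl⟩
    rw [← hs]
    exact Ideal.subset_span hb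
  · rw [coeffIdeal, Ideal.span_le]
    rintro _ ⟨φ, b, hb, rfl⟩
    rw [← hs] at hb
    induction hb using Submodule.span_induction generalizing φ with
    | mem b hb =>
      have h1 : b = (σ b).sum fun m c => c • m := by
        conv_lhs => rw [← LinearMap.id_apply (R := A) b, ← hσ]
        rfl
      rw [h1, Finsupp.sum, map_sum]
      refine Ideal.sum_mem _ fun m hm => ?_
      rw [map_smul, smul_eq_mul]
      refine Ideal.mul_mem_right _ _ (Ideal.subset_span ?_)
      simp only [Finset.coe_biUnion, Finset.mem_coe, Set.mem_iUnion, Finset.coe_image, Set.mem_image]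
      exact ⟨b, hb, m, hm, rfl⟩
    | zero => rw [map_zero]; exact zero_mem _
    | add x y _ _ hx hy => rw [map_add]; exact add_mem (hx φ) (hy φ)
    | smul c x _ hx => exact hx (φ.comp (LinearMap.mulLeft A c))

/-- the closed subscheme of the base defined by the coefficient ideal -/
noncomputable def ZJ (A : Type u) {B : Type u} [CommRing A] [CommRing B] [Algebra A B] (J : Ideal B) :
    Over (Spec (CommRingCat.of A)) :=
  Over.mk (Spec.map (CommRingCat.ofHom (Ideal.Quotient.mk (coeffIdeal A J))))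

instance isClosedImmersion_ZJ (J : Ideal B) : IsClosedImmersion (ZJ A J).hom :=
  IsClosedImmersion.spec_of_surjective _ Ideal.Quotient.mk_surjective

theorem nonempty_hom_ZJ_iff (J : Ideal B) (T : Over (Spec (CommRingCat.of A))) :
    Nonempty (T ⟶ ZJ A J) ↔ ∀ a ∈ coeffIdeal A J, (rm T.hom ⊤).hom a = 0 := by
  rw [← factor_iff]
  exact ⟨fun ⟨a⟩ => ⟨a.left, Over.w a⟩, fun ⟨l, hl⟩ => ⟨Over.homMk l hl⟩⟩

theorem nonempty_hom_ZJ_iff_of_isPullback [Module.Projective A B] (J : Ideal B)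
    (T : Over (Spec (CommRingCat.of A))) {W : Scheme.{u}} {g : W ⟶ Spec (CommRingCat.of B)} {q : W ⟶ T.left}
    (H : IsPullback g q (Spec.map (CommRingCat.ofHom (algebraMap A B))) T.hom) :
    Nonempty (T ⟶ ZJ A J) ↔ ∀ b ∈ J, (rm g ⊤).hom b = 0 := by
  rw [nonempty_hom_ZJ_iff, key J H]

theorem locallyOfFinitePresentation_ZJ [Module.Projective A B] (J : Ideal B) (hJ : J.FG) :
    LocallyOfFinitePresentation (ZJ A J).hom := by
  have h1 : (CommRingCat.ofHom (Ideal.Quotient.mk (coeffIdeal A J))).hom.FinitePresentation := by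
    refine RingHom.FinitePresentation.of_surjective _ Ideal.Quotient.mk_surjective ?_
    rw [CommRingCat.hom_ofHom, Ideal.mk_ker]
    exact coeffIdeal_fg J hJ
  exact (HasRingHomProperty.Spec_iff (P := @LocallyOfFinitePresentation)).2 h1

end main

end K256.WeilClosed
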